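import Groth.Agent.FlatLimMod.Stage
import Groth.Agent.ConsMod.Model
import Groth.Agent.ProperModel.Basic
import Groth.Agent.LimMore.Compact
import Groth.Agent.LimMore.OverBase
import Groth.Agent.ClSubLib.Support
import Groth.Agent.SupportLib.Pull

/-!
Noetherian models of finitely presented flat modules with support proper over the base.
-/

set_option autoImplicit false
set_option backward.isDefEq.respectTransparency false
set_option linter.style.haveILetI false

universe u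

open CategoryTheory CategoryTheory.Limits AlgebraicGeometry

noncomputable section

namespace Groth.Agent.PerfPush

open LimDesc

/-- properness descends to a stage, no separatedness at the first stage -/
theorem exists_isProper_stage {I : Type u} [SmallCategory I] [IsCofiltered I] (D : I ⥤ Scheme.{u})
    [∀ {i j} (f : i ⟶ j), IsAffineHom (D.map f)] [∀ i, IsLocallyNoetherian (D.obj i)]
    [∀ i, CompactSpace (D.obj i)] [∀ i, QuasiSeparatedSpace (D.obj i)]
    {c : Cone D} (hc : IsLimit c) {i₀ : I}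
    {X₀ : Scheme.{u}} (f₀ : X₀ ⟶ D.obj i₀) [LocallyOfFiniteType f₀] [QuasiCompact f₀] [QuasiSeparated f₀]
    {X : Scheme.{u}} {a : X ⟶ c.pt} {g : X ⟶ X₀} (h : IsPullback g a f₀ (c.π.app i₀)) [IsProper a] :
    ∃ (i : I) (φ : i ⟶ i₀), IsProper (pullback.snd f₀ (D.map φ)) := by
  have hY : IsPullback (c.π.app i₀) (𝟙 c.pt) (𝟙 (D.obj i₀)) (c.π.app i₀) := IsPullback.id_vert _
  haveI : ∀ k, IsIso (toStage D (𝟙 (D.obj i₀)) k) := fun k =>
    (isPullback_stage D (𝟙 (D.obj i₀)) k).isIso_snd_of_isIso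
  obtain ⟨m, hm⟩ := LimMore.exists_isSeparated_of_compactSpace D c hc f₀ (𝟙 (D.obj i₀)) hY h
  let f₁ : pullback f₀ (D.map m.hom) ⟶ D.obj m.left := pullback.snd f₀ (D.map m.hom)
  haveI : IsSeparated f₁ := by
    have e : IsPullback (toBase D (f₀ ≫ 𝟙 (D.obj i₀)) m) (toStage D (f₀ ≫ 𝟙 (D.obj i₀)) m) f₀ (D.map m.hom) := by
      have := isPullback_stage D (f₀ ≫ 𝟙 (D.obj i₀)) m
      simp only [Category.comp_id] at this ⊢
      exact this
    haveI : IsSeparated (toStage D (f₀ ≫ 𝟙 (D.obj i₀)) m) := by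
      rw [← stageMap_toStage D (𝟙 (D.obj i₀)) f₀ m]
      infer_instance
    rw [show f₁ = e.isoPullback.inv ≫ toStage D (f₀ ≫ 𝟙 (D.obj i₀)) m from (e.isoPullback_inv_snd).symm]
    infer_instance
  let g₁ : X ⟶ pullback f₀ (D.map m.hom) := pullback.lift g (a ≫ c.π.app m.left) (by
    rw [h.w, Category.assoc, c.w m.hom])
  have h₁ : IsPullback g₁ a f₁ (c.π.app m.left) :=
    IsPullback.of_right (by rw [pullback.lift_fst, c.w m.hom]; exact h) (pullback.lift_snd _ _ _)
      (IsPullback.of_hasPullback _ _)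
  haveI : LocallyOfFiniteType f₁ := inferInstanceAs (LocallyOfFiniteType (pullback.snd _ _))
  haveI : QuasiCompact f₁ := inferInstanceAs (QuasiCompact (pullback.snd _ _))
  obtain ⟨k, φ, hk⟩ := ProperModel.exists_isProper_stage D hc f₁ h₁
  refine ⟨k, φ ≫ m.hom, ?_⟩
  have hp : IsPullback (pullback.fst f₁ (D.map φ) ≫ pullback.fst f₀ (D.map m.hom)) (pullback.snd f₁ (D.map φ))
      f₀ (D.map (φ ≫ m.hom)) := by
    rw [D.map_comp]
    exact (IsPullback.of_hasPullback f₁ (D.map φ)).paste_horiz (IsPullback.of_hasPullback f₀ (D.map m.hom))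
  rw [show pullback.snd f₀ (D.map (φ ≫ m.hom)) = hp.isoPullback.inv ≫ pullback.snd f₁ (D.map φ) from
    (hp.isoPullback_inv_snd).symm]
  haveI := hk
  infer_instance

/-- a flat finitely presented module with proper support comes from a noetherian stage -/
theorem exists_model_support {A : Type u} [CommRing A] {X : Scheme.{u}} (f : X ⟶ Spec (CommRingCat.of A))
    [LocallyOfFinitePresentation f] [QuasiCompact f] [QuasiSeparated f] (F : X.Modules) [Coh.IsQCoh F]
    (hF : CohB1.IsFP F) (hfl : FlatMod.IsFlatOver f F) (hsupp : ClSub.IsProperOver f (CohB1.support F)) :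
    ∃ (A₀ : Subalgebra ℤ A) (_ : IsNoetherianRing ↥A₀) (X₀ : Scheme.{u})
      (f₀ : X₀ ⟶ Spec (CommRingCat.of ↥A₀)) (_ : LocallyOfFiniteType f₀) (_ : QuasiCompact f₀) (_ : QuasiSeparated f₀)
      (q : X ⟶ X₀) (F₀ : X₀.Modules),
      IsPullback q f f₀ (Spec.map (CommRingCat.ofHom A₀.val.toRingHom)) ∧ Coh.IsCoh F₀ ∧
        FlatMod.IsFlatOver f₀ F₀ ∧ ClSub.IsProperOver f₀ (CohB1.support F₀) ∧
        Nonempty ((Scheme.Modules.pullback q).obj F₀ ≅ F) := by
  let f' : X ⟶ (LimModel.fgCone A).pt := f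
  haveI : IsCofiltered (LimModel.FgSub A)ᵒᵖ := isCofiltered_op_of_isFiltered _
  let D := LimModel.fgDiagram A
  let c := LimModel.fgCone A
  let hc := LimModel.fgIsLimit A
  haveI : ∀ {i j : (LimModel.FgSub A)ᵒᵖ} (f : i ⟶ j), IsAffineHom (D.map f) := fun f =>
    inferInstanceAs (IsAffineHom ((LimModel.fgDiagram A).map f))
  haveI : ∀ i, CompactSpace (D.obj i) := fun i => inferInstanceAs (CompactSpace ((LimModel.fgDiagram A).obj i))
  haveI : ∀ i, QuasiSeparatedSpace (D.obj i) := fun i =>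
    inferInstanceAs (QuasiSeparatedSpace ((LimModel.fgDiagram A).obj i))
  haveI : ∀ i : (LimModel.FgSub A)ᵒᵖ, IsLocallyNoetherian (D.obj i) := fun i => by
    have := Algebra.FiniteType.isNoetherianRing ℤ i.unop.1
      (h := i.unop.1.fg_iff_finiteType.mp i.unop.2)
    exact inferInstanceAs (IsLocallyNoetherian (Spec (CommRingCat.of i.unop.1)))
  haveI : LocallyOfFinitePresentation f' := ‹LocallyOfFinitePresentation f›
  haveI : QuasiCompact f' := ‹QuasiCompact f›
  haveI : QuasiSeparated f' := ‹QuasiSeparated f›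
  obtain ⟨j, X₀, f₀, qX, F₀, h1, h2, h3, hq, hqc, hfp, ⟨eF⟩⟩ :=
    ConsMod.exists_model_pair_cone D c hc f' F hF
  haveI := h1; haveI := h2; haveI := h3
  haveI : LocallyOfFinitePresentation (f₀ ≫ 𝟙 (D.obj j)) := by rw [Category.comp_id]; exact h1
  haveI : QuasiCompact (f₀ ≫ 𝟙 (D.obj j)) := by rw [Category.comp_id]; exact h2
  haveI : QuasiSeparated (f₀ ≫ 𝟙 (D.obj j)) := by rw [Category.comp_id]; exact h3
  haveI : CompactSpace X₀ := QuasiCompact.compactSpace_of_compactSpace f₀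
  have hY : IsPullback (c.π.app j) (𝟙 c.pt) (𝟙 (D.obj j)) (c.π.app j) := IsPullback.id_vert _
  let hc' := isPullback_comp D (𝟙 (D.obj j)) c hY f₀ hq
  haveI : ∀ k, IsIso (toStage D (𝟙 (D.obj j)) k) := fun k =>
    (isPullback_stage D (𝟙 (D.obj j)) k).isIso_snd_of_isIso
  obtain ⟨l, hl⟩ := FlatLimMod.exists_isFlatOver_stage D c hc f₀ (𝟙 (D.obj j)) hY hq F₀
    hqc hfp fun y => FlatLimMod.isFlatOverAt_of_iso f eF.symm (hfl y)
  let X₁ := stage D (f₀ ≫ 𝟙 (D.obj j)) l
  let f₁ : X₁ ⟶ D.obj l.left := toStage D (f₀ ≫ 𝟙 (D.obj j)) l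
  let q₁ := proj D (f₀ ≫ 𝟙 (D.obj j)) c hc' l
  let F₁ := (Scheme.Modules.pullback (toBase D (f₀ ≫ 𝟙 (D.obj j)) l)).obj F₀
  have hflat₁ : FlatMod.IsFlatOver f₁ F₁ := fun y =>
    FlatLimMod.isFlatOverAt_comp_iso _ (toStage D (𝟙 (D.obj j)) l) (stageMap_toStage D _ f₀ l) _ (hl y)
  haveI : LocallyOfFinitePresentation f₁ :=
    MorphismProperty.of_isPullback (P := @LocallyOfFinitePresentation) (isPullback_stage D _ l) ‹_›
  haveI : QuasiCompact f₁ :=
    MorphismProperty.of_isPullback (P := @QuasiCompact) (isPullback_stage D _ l) ‹_›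
  haveI : QuasiSeparated f₁ :=
    MorphismProperty.of_isPullback (P := @QuasiSeparated) (isPullback_stage D _ l) ‹_›
  have hp₁ : IsPullback q₁ f' f₁ (c.π.app l.left) := by
    have hp : IsPullback q₁ (f' ≫ 𝟙 c.pt) f₁ (c.π.app l.left) := isPullback_proj _ _ _ _ _
    rw [Category.comp_id f'] at hp
    exact hp
  have hcoh₀ : Coh.IsCoh F₀ := ⟨hqc, ModDesc.isFT_of_isFP hfp⟩
  have hcoh₁ : Coh.IsCoh F₁ := QC.isCoh_pullback _ hcoh₀
  haveI : IsLocallyNoetherian X₁ := LocallyOfFiniteType.isLocallyNoetherian f₁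
  let eF₁ : (Scheme.Modules.pullback q₁).obj F₁ ≅ F :=
    (ModDesc.trIso q₁ _ (proj_toBase D _ c hc' l)).app F₀ ≪≫ eF
  -- the support at the stage
  have hZ₁ : IsClosed (CohB1.support F₁) := QC.isClosed_support hcoh₁.2
  let i := ClSubLib.redι (CohB1.support F₁) hZ₁
  let T := pullback q₁ i
  have hT : IsPullback (pullback.snd q₁ i) (pullback.fst q₁ i ≫ f') (i ≫ f₁) (c.π.app l.left) :=
    (IsPullback.of_hasPullback q₁ i).flip.paste_vert hp₁
  haveI : IsProper (pullback.fst q₁ i ≫ f') := by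
    haveI : LocallyOfFiniteType f := inferInstance
    refine ClSubLib.isProper_comp f (pullback.fst q₁ i) hsupp ?_
    rintro _ ⟨t, rfl⟩
    haveI := hcoh₁.1
    have h4 : CohB1.support F = q₁.base ⁻¹' CohB1.support F₁ := by
      rw [← SupportLib.support_pullback q₁ F₁ hcoh₁.2]
      ext x
      refine not_congr (Equiv.subsingleton_congr ?_)
      exact ((TopCat.Presheaf.stalkFunctor _ x).mapIso
        ((Scheme.Modules.toPresheaf X).mapIso eF₁.symm)).addCommGroupIsoToAddEquiv.toEquiv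
    rw [h4, Set.mem_preimage, ← Scheme.Hom.comp_apply, pullback.condition, Scheme.Hom.comp_apply]
    exact (ClSubLib.range_redι (CohB1.support F₁) hZ₁).le ⟨_, rfl⟩
  obtain ⟨k, φ, hk⟩ := exists_isProper_stage D hc (i ≫ f₁) hT
  let f₂ := pullback.snd f₁ (D.map φ)
  have hsq : IsPullback (pullback.fst f₁ (D.map φ)) f₂ f₁ (D.map φ) := IsPullback.of_hasPullback _ _
  let q₂ : X ⟶ pullback f₁ (D.map φ) := pullback.lift q₁ (f' ≫ c.π.app k) (by
    rw [hp₁.w, Category.assoc, c.w φ])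
  have hp₂ : IsPullback q₂ f' f₂ (c.π.app k) :=
    IsPullback.of_right (by rw [pullback.lift_fst, c.w φ]; exact hp₁) (pullback.lift_snd _ _ _) hsq
  haveI : IsNoetherianRing ↥(k.unop.1 : Subalgebra ℤ A) :=
    Algebra.FiniteType.isNoetherianRing ℤ k.unop.1 (h := k.unop.1.fg_iff_finiteType.mp k.unop.2)
  let F₂ := (Scheme.Modules.pullback (pullback.fst f₁ (D.map φ))).obj F₁
  have hcoh₂ : Coh.IsCoh F₂ := QC.isCoh_pullback _ hcoh₁
  haveI : LocallyOfFiniteType f₂ := inferInstanceAs (LocallyOfFiniteType (pullback.snd _ _))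
  haveI : QuasiCompact f₂ := inferInstanceAs (QuasiCompact (pullback.snd _ _))
  haveI : QuasiSeparated f₂ := inferInstanceAs (QuasiSeparated (pullback.snd _ _))
  haveI : IsLocallyNoetherian (pullback f₁ (D.map φ)) := LocallyOfFiniteType.isLocallyNoetherian f₂
  have hprop : ClSub.IsProperOver f₂ (CohB1.support F₂) := by
    let t := pullback.fst (pullback.fst f₁ (D.map φ)) i
    have hTk : IsPullback (pullback.snd (pullback.fst f₁ (D.map φ)) i) (t ≫ f₂) (i ≫ f₁) (D.map φ) :=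
      (IsPullback.of_hasPullback _ i).flip.paste_vert hsq
    haveI := hk
    haveI : IsProper (t ≫ f₂) := by
      rw [← hTk.isoPullback_hom_snd]
      infer_instance
    refine ClSubLib.isProperOver_of_subset f₂ t _ (QC.isClosed_support hcoh₂.2) fun x hx => ?_
    obtain ⟨z, hz⟩ : pullback.fst f₁ (D.map φ) x ∈ Set.range i := by
      rw [ClSubLib.range_redι]
      exact ClSubLib.support_pullback_subset _ _ hx
    obtain ⟨v, hv, -⟩ := Scheme.Pullback.exists_preimage_pullback x z hz.symm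
    exact ⟨v, hv⟩
  refine ⟨k.unop.1, inferInstance, pullback f₁ (D.map φ), f₂, ‹_›, ‹_›, ‹_›, q₂, F₂, hp₂, hcoh₂,
    fun z => FlatModBC.isFlatOverAt_baseChange hsq F₁ z (hflat₁ _), hprop, ⟨?_⟩⟩
  exact (ModDesc.trIso q₂ _ (pullback.lift_fst _ _ _)).app F₁ ≪≫ eF₁

end Groth.Agent.PerfPush
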