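import Groth.Agent.PerfPush.Tri
import Groth.Agent.PerfPush.Model
import Groth.Agent.TorBC.Main
import Groth.Agent.CohProperPush.TensorPerfect
import Groth.Agent.DQPush.Affine
import Groth.Agent.FibDepth.Global
import Groth.Agent.KFlat.TorFlat
import Groth.Agent.ModDesc.Descent

/-!
`Rf_*(E ⊗^L G)` is perfect for finitely presented `f` and flat finitely presented `G` with proper support.
-/

set_option autoImplicit false
set_option backward.isDefEq.respectTransparency false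
set_option backward.isDefEq.respectTransparency.types false
set_option linter.style.haveILetI false

universe u

open CategoryTheory Limits Pretriangulated AlgebraicGeometry

attribute [local instance] HasDerivedCategory.standard

namespace Groth.Agent.PerfPush

open Groth.Agent.DQCoh (RD rC rdIso)

variable {X S : Scheme.{u}}

/-- pullback of a generator along an affine morphism generates -/
theorem gen_lpull {X₀ : Scheme.{u}} (q : X ⟶ X₀) [IsAffineHom q] [DCoh.HasLpull q] [DCoh.HasRpush q]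
    {P₀ : DCoh.D X₀} (hgen : PerfGen.Gen (DCoh.IsQCohD (X := X₀)) P₀) (hP₀ : DCoh.IsPerfect P₀)
    [CompactSpace X₀] [QuasiSeparatedSpace X₀] :
    PerfGen.Gen (DCoh.IsQCohD (X := X)) ((DCoh.Lpull q).obj P₀) := by
  intro M hM h
  haveI : QuasiCompact q := inferInstance
  haveI : QuasiSeparated q := inferInstance
  obtain ⟨adj⟩ := DerPush.nonempty_lpull_adj_rpush q
  have hshift : ∀ n : ℤ, Nonempty ((DCoh.Lpull q).obj (P₀⟦n⟧) ≅ ((DCoh.Lpull q).obj P₀)⟦n⟧) := fun n => by
    obtain ⟨K, hK, -, ⟨ε⟩⟩ := KFlat.exists_isKFlat_rep P₀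
    let Φ := (Scheme.Modules.pullback q).mapHomologicalComplex (ComplexShape.up ℤ)
    exact ⟨(DCoh.Lpull q).mapIso ((shiftFunctor _ n).mapIso ε.symm ≪≫
        ((DerivedCategory.Q (C := X₀.Modules)).commShiftIso n).symm.app K) ≪≫
      KFlat.lpullIso q (DQCoh.isKFlat_shift hK n) ≪≫
      DerivedCategory.Q.mapIso ((Φ.commShiftIso n).app K) ≪≫
      ((DerivedCategory.Q (C := X.Modules)).commShiftIso n).app _ ≪≫
      (shiftFunctor _ n).mapIso ((KFlat.lpullIso q hK).symm ≪≫ (DCoh.Lpull q).mapIso ε)⟩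
  have h0 : IsZero ((DCoh.Rpush q).obj M) :=
    hgen _ (DQPush.isQCohD_rpush q hM) fun n g => by
      apply (adj.homEquiv _ _).symm.injective
      obtain ⟨e⟩ := hshift n
      rw [← cancel_epi e.inv]
      exact (h n _).trans (h n _).symm
  have : IsIso (0 : M ⟶ M) := DQPush.isIso_of_rpush q hM hM 0 (h0.isIso h0 _)
  rw [IsZero.iff_id_eq_zero]
  have h1 := IsIso.hom_inv_id (0 : M ⟶ M)
  rw [zero_comp] at h1
  exact h1.symm

/-- the case of an affine base -/
theorem pushPerf_affine {A : Type u} [CommRing A] (f : X ⟶ Spec (CommRingCat.of A)) [LocallyOfFinitePresentation f]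
    [QuasiCompact f] [QuasiSeparated f] {E : DCoh.D X} (hE : DCoh.IsPerfect E) (G : X.Modules) (hG : CohB1.IsFP G)
    (hflat : FlatMod.IsFlatOver f G) (hsupp : ClSub.IsProperOver f (CohB1.support G)) [DCoh.HasLTensorMod G]
    [DCoh.HasRpush f] : PushPerf f G E := by
  haveI := FibDepth.isQCoh_of_isFP hG
  obtain ⟨A₀, hA₀, X₀, f₀, hft, hqc, hqs, q, G₀, H, hcoh, hflat₀, hsupp₀, ⟨e⟩⟩ :=
    exists_model_support f G hG hflat hsupp
  haveI := hA₀; haveI := hft; haveI := hqc; haveI := hqs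
  let g₀ := Spec.map (CommRingCat.ofHom A₀.val.toRingHom)
  haveI : IsAffineHom q := MorphismProperty.of_isPullback (P := @IsAffineHom) H.flip inferInstance
  haveI : CompactSpace X₀ := QuasiCompact.compactSpace_of_compactSpace f₀
  haveI : QuasiSeparatedSpace X₀ := quasiSeparatedSpace_of_quasiSeparated f₀
  haveI : CompactSpace X := QuasiCompact.compactSpace_of_compactSpace f
  haveI : QuasiSeparatedSpace X := quasiSeparatedSpace_of_quasiSeparated f
  haveI := KFlat.hasLpull q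
  haveI := KFlat.hasLpull g₀
  haveI := KFlat.hasLTensorMod G₀
  haveI := KFlat.hasLTensorMod ((Scheme.Modules.pullback q).obj G₀)
  haveI := DerPush.hasRpush_sch q
  haveI := DerPush.hasRpush_sch f₀
  obtain ⟨hu, hc⟩ := PerfGen.isClosed_univ' (X := X₀)
  obtain ⟨P₀, hP₀, -, hgen₀⟩ := PerfGen.hasGen X₀ _ hu hc
  have hgen : PerfGen.Gen (DCoh.IsQCohD (X := X₀)) P₀ := fun M hM h => hgen₀ M ⟨hM, PerfGen.suppD_univ M⟩ h
  refine pushPerf_of_gen f G (DerPerf.isPerfect_Lpull q P₀ hP₀) (gen_lpull q hgen hP₀) ?_ hE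
  obtain ⟨bc⟩ := TorBC.nonempty_baseChange_flat H P₀ (PerfGen.isQCohD_of_isPerfect hP₀) G₀ hcoh.1 hflat₀
  obtain ⟨ε⟩ := nonempty_ltm_congr e ((DCoh.Lpull q).obj P₀)
  refine DQCoh.perfect_of_iso (bc ≪≫ (DCoh.Rpush f).mapIso ε) (DerPerf.isPerfect_Lpull g₀ _ ?_)
  obtain ⟨K, hK, -, ⟨d⟩⟩ := KFlat.exists_isKFlat_rep P₀
  exact DQCoh.perfect_of_iso
    ((DCoh.Rpush f₀).mapIso ((KFlat.lTensorModIso G₀ hK).symm ≪≫ (DCoh.LTensorMod G₀).mapIso d))
    (CohProperPush.isPerfect_rpush_tR f₀ hK (DQCoh.perfect_of_iso d.symm hP₀) G₀ hcoh hflat₀ hsupp₀)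

/-- derived pullback along an open immersion is restriction -/
theorem nonempty_lpull_RD {U : Scheme.{u}} (j : U ⟶ X) [IsOpenImmersion j] [DCoh.HasLpull j] (K : DCoh.D X) :
    Nonempty ((DCoh.Lpull j).obj K ≅ (RD j).obj K) := by
  obtain ⟨P, hP, -, ⟨ε⟩⟩ := KFlat.exists_isKFlat_rep K
  exact ⟨(DCoh.Lpull j).mapIso ε.symm ≪≫ KFlat.lpullIso j hP ≪≫
    DerivedCategory.Q.mapIso ((NatIso.mapHomologicalComplex (Scheme.Modules.restrictFunctorIsoPullback j).symm
      (ComplexShape.up ℤ)).app P) ≪≫ (rdIso j P).symm ≪≫ (RD j).mapIso ε⟩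

/-- **`Rf_*(E ⊗^L G)` is perfect** -/
theorem pushPerf (f : X ⟶ S) [LocallyOfFinitePresentation f] [QuasiCompact f] [QuasiSeparated f] {E : DCoh.D X}
    (hE : DCoh.IsPerfect E) (G : X.Modules) (hG : CohB1.IsFP G) (hflat : FlatMod.IsFlatOver f G)
    (hsupp : ClSub.IsProperOver f (CohB1.support G)) [DCoh.HasLTensorMod G] [DCoh.HasRpush f] :
    PushPerf f G E := by
  haveI hq := FibDepth.isQCoh_of_isFP hG
  unfold PushPerf
  rw [DQCoh.perfect_iff_near]
  intro x
  obtain ⟨V, hV, hxV, -⟩ := exists_isAffineOpen_mem_and_subset (X := S) (x := x) (U := ⊤) trivial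
  let g : Spec (CommRingCat.of Γ(S, V)) ⟶ S := hV.fromSpec
  haveI : IsOpenImmersion g := inferInstanceAs (IsOpenImmersion hV.fromSpec)
  haveI := KFlat.hasLpull g
  haveI := KFlat.hasLpull (pullback.fst f g)
  haveI := DerPush.hasRpush_sch (pullback.snd f g)
  haveI := KFlat.hasLTensorMod ((Scheme.Modules.pullback (pullback.fst f g)).obj G)
  have H := IsPullback.of_hasPullback f g
  obtain ⟨bc⟩ := TorBC.nonempty_baseChange_flat H E (PerfGen.isQCohD_of_isPerfect hE) G hq hflat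
  obtain ⟨r⟩ := nonempty_lpull_RD g ((DCoh.Rpush f).obj ((DCoh.LTensorMod G).obj E))
  have hp : DCoh.IsPerfect ((RD g).obj ((DCoh.Rpush f).obj ((DCoh.LTensorMod G).obj E))) := by
    refine DQCoh.perfect_of_iso (bc.symm ≪≫ r) ?_
    refine pushPerf_affine (pullback.snd f g) (DerPerf.isPerfect_Lpull _ E hE) _ (ModDesc.isFP_pullback _ hq hG)
      (fun z => FlatModBC.isFlatOverAt_baseChange H G z (hflat _)) ?_
    exact ClSubLib.mono (ClSubLib.isProperOver_baseChange H hsupp)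
      (QC.isClosed_support (QC.isCoh_pullback _ ⟨hq, ModDesc.isFT_of_isFP hG⟩).2)
      (ClSubLib.support_pullback_subset _ G)
  obtain ⟨v, rfl⟩ : x ∈ Set.range g.base := by
    change x ∈ Set.range hV.fromSpec.base
    rw [hV.range_fromSpec]; exact hxV
  obtain ⟨O, o, ho, w, hw, hP⟩ := (DQCoh.perfect_iff_near _).1 hp v
  haveI := ho
  exact ⟨O, o ≫ g, inferInstance, w, by rw [Scheme.Hom.comp_apply, hw], DQCoh.perfOn_push o g hP⟩

end Groth.Agent.PerfPush
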