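import Groth.Agent.W7Hull.PushOne
import Groth.Agent.Rigid.Sections
import Groth.Agent.AffHull.Basic
import Groth.Agent.SteinGen.Basic
import Mathlib.AlgebraicGeometry.AlgClosed.Basic
import Mathlib.FieldTheory.IsAlgClosed.AlgebraicClosure

/-!
`f_* O_X = O_S` for proper flat `f` of finite presentation whose fibres have only constant functions;
this holds when the geometric fibres are reduced and connected.
-/

set_option autoImplicit false
set_option backward.isDefEq.respectTransparency false
set_option backward.isDefEq.respectTransparency.types false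
set_option linter.style.haveILetI false

universe u

open CategoryTheory Limits AlgebraicGeometry

namespace Groth.Agent.PerfPush

/-- functions on a proper reduced connected scheme over an algebraically closed field are constant -/
theorem bijective_appTop_of_algClosed {K : Type u} [Field K] [IsAlgClosed K] {Z : Scheme.{u}}
    (q : Z ⟶ Spec (CommRingCat.of K)) [IsProper q] [IsReduced Z] [ConnectedSpace Z] :
    Function.Bijective q.appTop.hom := by
  haveI : JacobsonSpace Z := LocallyOfFiniteType.jacobsonSpace q
  obtain ⟨x, -, hx⟩ := nonempty_inter_closedPoints (X := Z) (Z := Set.univ) Set.univ_nonempty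
    isClosed_univ.isLocallyClosed
  let s := pointOfClosedPoint q x hx
  have hs : s ≫ q = 𝟙 _ := pointOfClosedPoint_comp q x hx
  have h : ∀ a, s.appTop (q.appTop a) = a := fun a => by
    rw [← CommRingCat.comp_apply, ← Scheme.Hom.comp_appTop, hs]
    rfl
  refine ⟨fun a b e => by rw [← h a, ← h b]; exact congrArg s.appTop e, fun φ => ⟨s.appTop φ, ?_⟩⟩
  refine sub_eq_zero.1 (Rigid.eq_zero_of_section_field q s hs _ ?_)
  rw [map_sub]
  exact sub_eq_zero.2 (h _)

/-- descending "only constant functions" along a field extension -/
theorem isIso_appTop_of_extension {k K : Type u} [Field k] [Field K] {X P : Scheme.{u}} (i : k →+* K)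
    {p : P ⟶ X} {q : P ⟶ Spec (CommRingCat.of K)} {g : X ⟶ Spec (CommRingCat.of k)} [IsProper g] [Flat g]
    (H : IsPullback p q g (Spec.map (CommRingCat.ofHom i))) (hq : Function.Bijective q.appTop.hom) :
    IsIso g.appTop := by
  haveI : CompactSpace X := QuasiCompact.compactSpace_of_compactSpace g
  haveI : X.IsSeparated := by
    constructor
    rw [← terminal.comp_from g]
    infer_instance
  let h := Spec.map (CommRingCat.ofHom i)
  have hk : IsField Γ(Spec (CommRingCat.of k), ⊤) := MulEquiv.isField (Field.toIsField k)
    (Scheme.ΓSpecIso (CommRingCat.of k)).commRingCatIsoToRingEquiv.toMulEquiv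
  have hflat : h.appTop.hom.Flat := GammaProd.flat_appTop_field h
  have HP := GammaProd.isPushout_appTop hflat H
  let A₀ := Γ(Spec (CommRingCat.of k), ⊤)
  let A := Γ(X, ⊤)
  let B := Γ(Spec (CommRingCat.of K), ⊤)
  letI := hk.toField
  algebraize [g.appTop.hom, h.appTop.hom]
  haveI : Nontrivial B := (Scheme.ΓSpecIso (CommRingCat.of K)).commRingCatIsoToRingEquiv.nontrivial
  have PY := CommRingCat.isPushout_tensorProduct A₀ A B
  have w : g.appTop ≫ p.appTop = h.appTop ≫ q.appTop := HP.w
  let d := PY.desc p.appTop q.appTop w
  haveI : IsIso d := FinFibImage.isIso_desc_of_isPushout PY _ _ w HP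
  have hr : Function.Bijective
      (Algebra.TensorProduct.includeRight.toRingHom : B →+* TensorProduct A₀ A B) := by
    have he : (fun x : B => d (Algebra.TensorProduct.includeRight.toRingHom x)) = q.appTop.hom := by
      funext x
      exact congr($(PY.inr_desc p.appTop q.appTop w).hom x)
    have hb : Function.Bijective (fun x : B => d (Algebra.TensorProduct.includeRight.toRingHom x)) := by
      rw [he]; exact hq
    exact (Function.Bijective.of_comp_iff' (ConcreteCategory.bijective_of_isIso d) _).1 hb
  haveI : Nontrivial A := by
    refine not_subsingleton_iff_nontrivial.1 fun hA => ?_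
    haveI := hA
    haveI : Subsingleton (TensorProduct A₀ A B) := by
      refine subsingleton_of_forall_eq 0 fun t => ?_
      induction t with
      | zero => rfl
      | tmul a b => rw [Subsingleton.elim a 0, TensorProduct.zero_tmul]
      | add x y hx hy => rw [hx, hy, add_zero]
    exact not_subsingleton B (hr.1.subsingleton)
  haveI : Module.FaithfullyFlat A₀ B := inferInstance
  refine (ConcreteCategory.isIso_iff_bijective _).2 ?_
  refine (Module.FaithfullyFlat.lTensor_bijective_iff_bijective A₀ B (Algebra.linearMap A₀ A)).1 ?_
  have hfac : (LinearMap.lTensor B (Algebra.linearMap A₀ A) : TensorProduct A₀ B A₀ → TensorProduct A₀ B A) =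
      (TensorProduct.comm A₀ A B) ∘ (fun b : B => (1 : A) ⊗ₜ[A₀] b) ∘ (TensorProduct.rid A₀ B) := by
    funext t
    induction t with
    | zero => simp
    | tmul b a => simp [Algebra.algebraMap_eq_smul_one, TensorProduct.tmul_smul]
    | add x y hx hy =>
      simp only [Function.comp_apply] at hx hy
      simp [map_add, hx, hy, TensorProduct.tmul_add]
  rw [hfac]
  exact (TensorProduct.comm A₀ A B).bijective.comp (hr.comp (TensorProduct.rid A₀ B).bijective)

/-- geometrically reduced and connected fibres have only constant functions -/
theorem isIso_fiber_appTop {X S : Scheme.{u}} (f : X ⟶ S) [IsProper f] [Flat f]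
    (h : ∀ (K : Type u) [Field K] [IsAlgClosed K] (g : Spec (CommRingCat.of K) ⟶ S),
      IsReduced (pullback f g) ∧ ConnectedSpace ↥(pullback f g)) (s : S) :
    IsIso (f.fiberToSpecResidueField s).appTop := by
  let k : Type u := S.residueField s
  let K : Type u := AlgebraicClosure k
  let f' : f.fiber s ⟶ Spec (CommRingCat.of k) := f.fiberToSpecResidueField s
  let t : Spec (CommRingCat.of K) ⟶ Spec (CommRingCat.of k) := Spec.map (CommRingCat.ofHom (algebraMap k K))
  haveI : IsProper f' := MorphismProperty.of_isPullback (IsPullback.of_hasPullback f (S.fromSpecResidueField s)) ‹IsProper f›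
  haveI : Flat f' := inferInstanceAs (Flat (pullback.snd f (S.fromSpecResidueField s)))
  have H : IsPullback (pullback.fst f' t) (pullback.snd f' t) f' t := IsPullback.of_hasPullback f' t
  let g : Spec (CommRingCat.of K) ⟶ S := t ≫ S.fromSpecResidueField s
  have H' : IsPullback (pullback.fst f' t ≫ f.fiberι s) (pullback.snd f' t) f g :=
    H.paste_horiz (IsPullback.of_hasPullback f (S.fromSpecResidueField s))
  obtain ⟨hred, hconn⟩ := h K g
  haveI := hred
  haveI := hconn
  haveI : IsReduced (pullback f' t) := isReduced_of_isOpenImmersion H'.isoPullback.hom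
  haveI : ConnectedSpace ↥(pullback f' t) := H'.isoPullback.inv.homeomorph.surjective.connectedSpace
    H'.isoPullback.inv.homeomorph.continuous
  exact isIso_appTop_of_extension (k := k) (g := f') (algebraMap k K) H
    (bijective_appTop_of_algClosed (pullback.snd f' t))

/-- `O_S ⟶ f_* O_X` is an isomorphism -/
theorem isIso_app {X S : Scheme.{u}} (f : X ⟶ S) [IsProper f] [Flat f] [LocallyOfFinitePresentation f]
    (h : ∀ s : S, IsIso (f.fiberToSpecResidueField s).appTop) (V : S.Opens) : IsIso (f.app V) := by
  have hU : ∀ s : S, ∃ U : S.Opens, s ∈ U ∧ ∀ W : S.Opens, W ≤ U → Function.Bijective (f.app W).hom := fun s => by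
    haveI := h s
    exact W7Hull.exists_nhd_app_bijective_of_lfp f s
      ((ConcreteCategory.bijective_of_isIso (f.fiberToSpecResidueField s).appTop).comp
        (ConcreteCategory.bijective_of_isIso (Scheme.ΓSpecIso (S.residueField s)).inv))
  choose U hsU hU using hU
  have hW : ∀ s : S, ∃ W : S.Opens, IsAffineOpen W ∧ s ∈ W ∧ W ≤ U s := fun s => by
    obtain ⟨W, hW, hs, hle⟩ := exists_isAffineOpen_mem_and_subset (X := S) (x := s) (U := U s) (hsU s)
    exact ⟨W, hW, hs, hle⟩
  choose W hWa hsW hWU using hW
  exact SteinGen.isIso_app_of_affine_cover f W hWa (fun y => ⟨y, hsW y⟩) (fun s => hU s _ (hWU s)) V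

end Groth.Agent.PerfPush
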