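import Groth.Agent.PerfPush.Main
import Groth.Agent.PerfLocus.Main
import Groth.Agent.DQCoh.TensorUnit
import Groth.Agent.RelPCS.Single

/-!
# `Rf_* F` for a single flat finitely presented module: perfect, and commutes with base change
-/

set_option autoImplicit false
set_option backward.isDefEq.respectTransparency false
set_option backward.isDefEq.respectTransparency.types false
set_option linter.style.haveILetI false

universe u

open CategoryTheory Limits AlgebraicGeometry

attribute [local instance] HasDerivedCategory.standard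

namespace Groth.Agent.PerfPush

open Groth.Agent.DQCoh (RD rC rdIso)

variable {X S : Scheme.{u}}

theorem isPerfect_inD_finLocFree {M : X.Modules} (h : FlatMod.IsFinLocFree M) : DCoh.IsPerfect (DCoh.inD X M) := by
  refine DQCoh.perfect_of_iso ((DerivedCategory.singleFunctorIsoCompQ X.Modules 0).app M).symm ?_
  rw [DQCoh.perfect_iff_near]
  refine fun x => ⟨X, 𝟙 X, inferInstance, x, rfl, _,
    DQCoh.isStrictlyPerfect_restrict (𝟙 X) (E := PerfLocus.sg X 0 M)
      ⟨⟨0, 0, fun i hi => HomologicalComplex.isZero_single_obj_X _ 0 M i (by omega)⟩, fun i => ?_⟩,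
    ⟨rdIso (𝟙 X) _⟩⟩
  by_cases hi : i = 0
  · subst hi
    exact DQCoh.isFinLocFree_of_iso' (HomologicalComplex.singleObjXSelf (ComplexShape.up ℤ) 0 M).symm h
  · exact DQCoh.isFinLocFree_of_isZero (HomologicalComplex.isZero_single_obj_X _ _ _ _ hi)

theorem isFinLocFree_unit (X : Scheme.{u}) : FlatMod.IsFinLocFree (Coh.structureModule X) :=
  DQCoh.isFinLocFree_of_iso' (X := X)
    { hom := Sigma.desc fun _ : Fin 1 => 𝟙 (Coh.structureModule X)
      inv := Sigma.ι (fun _ : Fin 1 => Coh.structureModule X) 0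
      hom_inv_id := Sigma.hom_ext _ _ fun i => by simp [Subsingleton.elim i 0]
      inv_hom_id := by simp }
    (RelPCS.isFinLocFree_freeMod (X := X) 1)

theorem isPerfect_unit (X : Scheme.{u}) : DCoh.IsPerfect (DCoh.inD X (Coh.structureModule X)) :=
  isPerfect_inD_finLocFree (isFinLocFree_unit X)

theorem nonempty_ltm_unit (G : X.Modules) [DCoh.HasLTensorMod G] :
    Nonempty ((DCoh.LTensorMod G).obj (DCoh.inD X (Coh.structureModule X)) ≅ DCoh.inD X G) := by
  have hK : DCoh.IsKFlat (PerfLocus.sg X 0 (Coh.structureModule X)) :=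
    PerfLocus.isKFlat_sg 0 (DerPerf.isFlat_structureModule X)
  exact ⟨(DCoh.LTensorMod G).mapIso ((DerivedCategory.singleFunctorIsoCompQ X.Modules 0).app _) ≪≫
    KFlat.lTensorModIso G hK ≪≫
    DerivedCategory.Q.mapIso
      ((HomologicalComplex.singleMapHomologicalComplex (DCoh.tensorRightMod G) (ComplexShape.up ℤ) 0).app _ ≪≫
        (HomologicalComplex.single X.Modules (ComplexShape.up ℤ) 0).mapIso ((DQCoh.unitTensNat X).app G)) ≪≫
    ((DerivedCategory.singleFunctorIsoCompQ X.Modules 0).app G).symm⟩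

theorem nonempty_lpull_unit {Y : Scheme.{u}} (g : Y ⟶ X) [DCoh.HasLpull g] :
    Nonempty ((DCoh.Lpull g).obj (DCoh.inD X (Coh.structureModule X)) ≅ DCoh.inD Y (Coh.structureModule Y)) := by
  have hK : DCoh.IsKFlat (PerfLocus.sg X 0 (Coh.structureModule X)) :=
    PerfLocus.isKFlat_sg 0 (DerPerf.isFlat_structureModule X)
  exact ⟨(DCoh.Lpull g).mapIso ((DerivedCategory.singleFunctorIsoCompQ X.Modules 0).app _) ≪≫
    KFlat.lpullIso g hK ≪≫
    DerivedCategory.Q.mapIso
      ((HomologicalComplex.singleMapHomologicalComplex (Scheme.Modules.pullback g) (ComplexShape.up ℤ) 0).app _ ≪≫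
        (HomologicalComplex.single Y.Modules (ComplexShape.up ℤ) 0).mapIso (DerPerf.pullUnitIso g)) ≪≫
    ((DerivedCategory.singleFunctorIsoCompQ Y.Modules 0).app _).symm⟩

/-- `Rf_* F` is perfect -/
theorem isPerfect_rpush_inD (f : X ⟶ S) [LocallyOfFinitePresentation f] [QuasiCompact f] [QuasiSeparated f]
    (F : X.Modules) (hF : CohB1.IsFP F) (hflat : FlatMod.IsFlatOver f F)
    (hsupp : ClSub.IsProperOver f (CohB1.support F)) [DCoh.HasRpush f] :
    DCoh.IsPerfect ((DCoh.Rpush f).obj (DCoh.inD X F)) := by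
  haveI := KFlat.hasLTensorMod F
  obtain ⟨e⟩ := nonempty_ltm_unit F
  exact DQCoh.perfect_of_iso ((DCoh.Rpush f).mapIso e) (pushPerf f (isPerfect_unit X) F hF hflat hsupp)

/-- `Rf_* F` commutes with every base change -/
theorem nonempty_baseChange_inD {X' S' : Scheme.{u}} {f : X ⟶ S} {g₀ : S' ⟶ S} {g' : X' ⟶ X} {f' : X' ⟶ S'}
    [QuasiCompact f] [QuasiSeparated f] (H : IsPullback g' f' f g₀) (F : X.Modules) (hF : Coh.IsQCoh F)
    (hflat : FlatMod.IsFlatOver f F) [DCoh.HasRpush f] [DCoh.HasLpull g₀] [DCoh.HasRpush f'] :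
    Nonempty ((DCoh.Lpull g₀).obj ((DCoh.Rpush f).obj (DCoh.inD X F)) ≅
      (DCoh.Rpush f').obj (DCoh.inD X' ((Scheme.Modules.pullback g').obj F))) := by
  haveI := KFlat.hasLTensorMod F
  haveI := KFlat.hasLTensorMod ((Scheme.Modules.pullback g').obj F)
  haveI := KFlat.hasLpull g'
  obtain ⟨e⟩ := TorBC.nonempty_baseChange_flat H _ (PerfGen.isQCohD_of_isPerfect (isPerfect_unit X)) F hF hflat
  obtain ⟨a⟩ := nonempty_ltm_unit F
  obtain ⟨b⟩ := nonempty_lpull_unit g'
  obtain ⟨c⟩ := nonempty_ltm_unit ((Scheme.Modules.pullback g').obj F)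
  exact ⟨((DCoh.Lpull g₀).mapIso ((DCoh.Rpush f).mapIso a)).symm ≪≫ e ≪≫
    (DCoh.Rpush f').mapIso ((DCoh.LTensorMod _).mapIso b ≪≫ c)⟩

end Groth.Agent.PerfPush
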