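import Groth.Agent.PerfPush.Unit
import Groth.Agent.DQCoh.PCNoeth
import Groth.Agent.DQPush.Basic
import Groth.Agent.LocFree.Props
import Groth.Agent.RelPCS.PushPC
import Groth.Agent.QC.FiniteType

/-!
A module which is perfect as a complex and whose derived fibres have no negative cohomology is finite
locally free; `f_* F` when the higher direct images vanish.
-/

set_option autoImplicit false
set_option backward.isDefEq.respectTransparency false
set_option backward.isDefEq.respectTransparency.types false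
set_option linter.style.haveILetI false

universe u

open CategoryTheory Limits AlgebraicGeometry

attribute [local instance] HasDerivedCategory.standard

namespace Groth.Agent.PerfPush

open Groth.Agent.DQCoh (RD rC rdIso)

variable {X S : Scheme.{u}}

/-- derived pullback is right exact -/
theorem isLE_lpull {Y : Scheme.{u}} (g : Y ⟶ X) [DCoh.HasLpull g] (K : DCoh.D X) (n : ℤ) [K.IsLE n] :
    ((DCoh.Lpull g).obj K).IsLE n := by
  obtain ⟨P, hP, -, ⟨e⟩⟩ := KFlat.exists_isKFlat_rep K
  have h : ∀ i, n + 1 ≤ i → IsZero (P.homology i) := fun i hi =>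
    (DerivedCategory.isZero_of_isLE K n i (by omega)).of_iso
      ((KFlat.hdIso P i).symm ≪≫ (DerivedCategory.homologyFunctor _ i).mapIso e)
  exact (DerivedCategory.isLE_iff _ n).2 fun i hi =>
    (DerPerf.isZero_homology_pullback g hP (n + 1) h i (by omega)).of_iso
      ((DerivedCategory.homologyFunctor _ i).mapIso ((DCoh.Lpull g).mapIso e.symm ≪≫ KFlat.lpullIso g hP) ≪≫
        KFlat.hdIso _ i)

/-- a coherent module on the spectrum of a field is free of finite rank -/
theorem exists_rank_specField {K : Type u} [Field K] (N : (Spec (CommRingCat.of K)).Modules) (hN : Coh.IsCoh N) :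
    ∃ r : ℕ, FlatMod.IsFinLocFreeOfRank r N := by
  haveI : N.IsQuasicoherent := hN.1
  have hflat : FlatMod.IsFlat N := fun y => by
    letI := (Betti.isField_stalk_SpecField (CommRingCat.of K) (Field.toIsField K) y).toField
    exact (inferInstance : Module.Flat ((Spec (CommRingCat.of K)).presheaf.stalk y) (N.presheaf.stalk y))
  have hlf : FlatMod.IsFinLocFree N :=
    LocFree.isFinLocFree_of_isFP_of_flat hN.1 (QC.isFP_of_isQCoh_of_isFT hN.2) hflat
  haveI : Subsingleton (Spec (CommRingCat.of K)) := inferInstanceAs (Subsingleton (PrimeSpectrum K))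
  obtain ⟨U, n, hU, h⟩ := hlf default
  exact ⟨n, fun y => ⟨U, Subsingleton.elim default y ▸ hU, h⟩⟩

/-- a perfect module with all derived fibres in degrees `≥ 0` is finite locally free -/
theorem isFinLocFree_of_perfect_fibres (M : X.Modules) (hp : DCoh.IsPerfect (DCoh.inD X M))
    (hge : ∀ (x : X) [DCoh.HasLpull (X.fromSpecResidueField x)],
      ((DCoh.Lpull (X.fromSpecResidueField x)).obj (DCoh.inD X M)).IsGE 0) :
    FlatMod.IsFinLocFree M := by
  refine DQCoh.isFinLocFree_of_local fun x => ?_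
  let g := X.fromSpecResidueField x
  haveI := KFlat.hasLpull g
  let E := (DCoh.Lpull g).obj (DCoh.inD X M)
  haveI : E.IsGE 0 := hge x
  haveI : E.IsLE 0 := isLE_lpull g _ 0
  obtain ⟨N, ⟨eN⟩⟩ := DerivedCategory.exists_iso_singleFunctor_obj_of_isGE_of_isLE E 0
  have hEp : DCoh.IsPerfect E := DerPerf.isPerfect_Lpull _ _ hp
  have hN : Coh.IsCoh N := K0Coh.isCoh_of_iso
    ((DerivedCategory.homologyFunctor _ 0).mapIso eN ≪≫
      (DerivedCategory.singleFunctorCompHomologyFunctorIso _ 0).app N)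
    (((DQCoh.pc_iff_isCoh E (PerfGen.isQCohD_of_isPerfect hEp) 0).1 (DQCoh.pc_of_perfect hEp 0)).1 0 le_rfl)
  obtain ⟨r, hr⟩ := exists_rank_specField (K := X.residueField x) N hN
  obtain ⟨U, hU⟩ := PerfLocus.exists_open (DCoh.inD X M) hp 0 r
  have hxU : x ∈ U := by
    refine (hU _ g).2 ⟨N, hr, ⟨eN ≪≫ (shiftFunctorZero' (DCoh.D _) (-0 : ℤ) neg_zero).symm.app _⟩⟩ ?_
    rw [Scheme.range_fromSpecResidueField]
    exact Set.mem_singleton x
  haveI := KFlat.hasLpull U.ι
  obtain ⟨V, hV, ⟨eV⟩⟩ := (hU _ U.ι).1 (by rw [Scheme.Opens.range_ι])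
  obtain ⟨r'⟩ := nonempty_lpull_RD U.ι (DCoh.inD X M)
  let e : (Scheme.Modules.restrictFunctor U.ι).obj M ≅ V :=
    ((DerivedCategory.singleFunctorCompHomologyFunctorIso _ 0).app _).symm ≪≫
      (DerivedCategory.homologyFunctor _ 0).mapIso ((RelPCS.rdInD U.ι M).symm ≪≫ r'.symm ≪≫ eV ≪≫
        (shiftFunctorZero' (DCoh.D _) (-0 : ℤ) neg_zero).app _) ≪≫
      (DerivedCategory.singleFunctorCompHomologyFunctorIso _ 0).app V
  refine ⟨_, U.ι, inferInstance, ⟨x, hxU⟩, rfl, DQCoh.isFinLocFree_of_iso' e.symm fun z => ?_⟩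
  obtain ⟨O, hz, hO⟩ := hV z
  exact ⟨O, r, hz, hO⟩

/-- `f_* F` is finite locally free when `F` is flat and the higher direct images vanish -/
theorem isFinLocFree_push (f : X ⟶ S) [LocallyOfFinitePresentation f] [QuasiCompact f] [QuasiSeparated f]
    [HasInjectiveResolutions X.Modules] (F : X.Modules) (hF : CohB1.IsFP F) (hflat : FlatMod.IsFlatOver f F)
    (hsupp : ClSub.IsProperOver f (CohB1.support F))
    (hvan : ∀ i : ℕ, 0 < i → IsZero ((Coh.Rpush f i).obj F)) : FlatMod.IsFinLocFree ((Coh.push f).obj F) := by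
  haveI := DerPush.hasRpush_sch f
  haveI : SiteCmp.HasRpushD (ModSite.RMor.ofScheme f) := ‹DCoh.HasRpush f›
  haveI : HasInjectiveResolutions (ModSite.Mod X.sheaf) := ‹HasInjectiveResolutions X.Modules›
  let K := (DCoh.Rpush f).obj (DCoh.inD X F)
  haveI : K.IsGE 0 := DQPush.isGE_rpush f _ 0
  haveI : K.IsLE 0 := (DerivedCategory.isLE_iff _ 0).2 fun i hi => by
    obtain ⟨p, rfl⟩ : ∃ p : ℕ, i = (p : ℤ) := ⟨i.toNat, by omega⟩
    exact (hvan p (by omega)).of_iso (RPushSite.nonempty_homology_single (ModSite.RMor.ofScheme f) F p).some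
  obtain ⟨M, ⟨eM⟩⟩ := DerivedCategory.exists_iso_singleFunctor_obj_of_isGE_of_isLE K 0
  obtain ⟨h0⟩ : Nonempty (DCoh.HD K 0 ≅ (Coh.push f).obj F) := by
    obtain ⟨a⟩ := RPushSite.nonempty_homology_single (ModSite.RMor.ofScheme f) F 0
    exact ⟨a ≪≫ (Coh.push f).rightDerivedZeroIsoSelf.app F⟩
  let e : M ≅ (Coh.push f).obj F := ((DerivedCategory.singleFunctorCompHomologyFunctorIso S.Modules 0).app M).symm ≪≫
    (DerivedCategory.homologyFunctor _ 0).mapIso eM.symm ≪≫ h0
  refine DQCoh.isFinLocFree_of_iso' e (isFinLocFree_of_perfect_fibres M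
    (DQCoh.perfect_of_iso eM (isPerfect_rpush_inD f F hF hflat hsupp)) fun s _ => ?_)
  haveI := DerPush.hasRpush_sch (pullback.snd f (S.fromSpecResidueField s))
  obtain ⟨b⟩ := nonempty_baseChange_inD (IsPullback.of_hasPullback f (S.fromSpecResidueField s)) F
    (FibDepth.isQCoh_of_isFP hF) hflat
  haveI := DQPush.isGE_rpush (pullback.snd f (S.fromSpecResidueField s))
    (DCoh.inD _ ((Scheme.Modules.pullback (pullback.fst f (S.fromSpecResidueField s))).obj F)) 0
  exact DerivedCategory.TStructure.t.isGE_of_iso (b.symm ≪≫ (DCoh.Lpull _).mapIso eM) 0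

end Groth.Agent.PerfPush
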