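import Groth.Agent.PerfPush.Unit
import Groth.Agent.W7Cech.RpushSec
import Groth.Agent.CohFinite.PushLinear
import Groth.Agent.DRingKP.Coherent
import Groth.Agent.DQPush.Basic
import Groth.Agent.RelPCS.Single
import Groth.Agent.LocFree.Props
import Groth.Agent.QC.SpecFT

/-!
Finite presentation of `H^i(X, G)` over a coherent base ring, `G` flat with proper support.
-/

set_option autoImplicit false
set_option backward.isDefEq.respectTransparency false
set_option backward.isDefEq.respectTransparency.types false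
set_option linter.style.haveILetI false

universe u

open CategoryTheory Limits AlgebraicGeometry Opposite

attribute [local instance] HasDerivedCategory.standard

namespace Groth.Agent.PerfPush

open Groth.Agent.DQCoh (RD rC rdIso)

variable {R : Type u} [CommRing R]

/-- cohomology sheaves of perfect objects over coherent rings -/
theorem isFP_hd_of_isPerfect (hR : DRingKP.IsCoh R) (K : DCoh.D (Spec (CommRingCat.of R))) (hK : DCoh.IsPerfect K)
    (i : ℤ) : CohB1.IsFP (DCoh.HD K i) := by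
  obtain ⟨M, ⟨e⟩⟩ := RelPCS.exists_tilde_rep (P := R) K (PerfGen.isQCohD_of_isPerfect hK)
  have hM : DRing.IsPerfect R M := (DQCoh.perfect_tilde_iff (A := R) M).1 (DQCoh.perfect_of_iso e.symm hK)
  haveI := (DRingKP.pc_finite_fp hR ((DQCoh.pseudoCoherent_tilde_iff (A := R) M (i - 1)).1
    (DQCoh.pc_of_perfect ((DQCoh.perfect_tilde_iff (A := R) M).2 hM) (i - 1)))).2 i (by omega)
  exact DQCoh.isFP_of_iso ((DQCoh.hdTildeIso (R := CommRingCat.of R) M i).symm ≪≫ (DerivedCategory.homologyFunctor _ i).mapIso e)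
    (QC.isFP_tilde (R := CommRingCat.of R) _)

lemma isIso_restrict_unit {X U : Scheme.{u}} (j : U ⟶ X) [IsIso j] (M : X.Modules) :
    IsIso ((Scheme.Modules.restrictAdjunction j).unit.app M) := by
  rw [Scheme.Modules.Hom.isIso_iff_isIso_app]
  intro W
  rw [Scheme.Modules.restrictAdjunction_unit_app_app]
  have h : j ''ᵁ j ⁻¹ᵁ W = W := by
    rw [Scheme.Hom.image_preimage_eq_opensRange_inf, inf_eq_right]
    exact fun x _ => ⟨(inv j).base x, by rw [← Scheme.Hom.comp_apply, IsIso.inv_hom_id]; rfl⟩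
  haveI : IsIso (homOfLE (j.image_preimage_le W)) := by
    rw [Subsingleton.elim (homOfLE (j.image_preimage_le W)) (eqToHom h)]
    infer_instance
  infer_instance

/-- `H^i(X, G)` is finitely presented -/
theorem finitePresentation_hh (hR : DRingKP.IsCoh R) (X : Scheme.{u}) [X.Over (Spec (CommRingCat.of R))]
    [QuasiCompact (X ↘ Spec (CommRingCat.of R))] [QuasiSeparated (X ↘ Spec (CommRingCat.of R))]
    [LocallyOfFinitePresentation (X ↘ Spec (CommRingCat.of R))] (G : X.Modules) (hG : CohB1.IsFP G)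
    (hflat : FlatMod.IsFlatOver (X ↘ Spec (CommRingCat.of R)) G)
    (hsupp : ClSub.IsProperOver (X ↘ Spec (CommRingCat.of R)) (CohB1.support G)) (i : ℕ) :
    Module.FinitePresentation R (Coh.HH X G i) := by
  let S : Scheme.{u} := Spec (CommRingCat.of R)
  let f : X ⟶ S := X ↘ Spec (CommRingCat.of R)
  haveI := DQPush.hasInj X
  haveI : HasInjectiveResolutions (ModSite.Mod X.sheaf) := DQPush.hasInj X
  haveI := DerPush.hasRpush_sch f
  haveI : SiteCmp.HasRpushD (ModSite.RMor.ofScheme f) := ‹DCoh.HasRpush f›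
  have hq := FibDepth.isQCoh_of_isFP hG
  have hK := isPerfect_rpush_inD f G hG hflat hsupp
  obtain ⟨a⟩ := RPushSite.nonempty_homology_single (ModSite.RMor.ofScheme f) G i
  have hfp : CohB1.IsFP ((Coh.Rpush f i).obj G) := DQCoh.isFP_of_iso a (isFP_hd_of_isPerfect hR _ hK i)
  have hV : IsAffineOpen (⊤ : S.Opens) := isAffineOpen_top S
  have h1 : Module.FinitePresentation Γ(S, ⊤) Γ((Coh.Rpush f i).obj G, ⊤) :=
    LocFree.finitePresentation_sections_of_isFP (RPushQC.isQCoh_rpush f G hq i) hfp hV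
  letI hU : (f ⁻¹ᵁ (⊤ : S.Opens)).toScheme.Over (Spec (CommRingCat.of Γ(S, ⊤))) :=
    ⟨(f ∣_ ⊤) ≫ hV.isoSpec.hom⟩
  letI hX : X.Over (Spec (CommRingCat.of Γ(S, ⊤))) := ⟨f ≫ S.toSpecΓ⟩
  obtain ⟨e₁⟩ := W7Cech.nonempty_rpush_sections f G hq i hV
  let j : (f ⁻¹ᵁ (⊤ : S.Opens)).toScheme ⟶ X := (f ⁻¹ᵁ (⊤ : S.Opens)).ι
  haveI : IsIso j := inferInstanceAs (IsIso X.topIso.hom)
  haveI : (G.restrict j).IsQuasicoherent := QC.isQCoh_restrict j hq
  have hj : j ≫ (X ↘ Spec (CommRingCat.of Γ(S, ⊤))) =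
      ((f ⁻¹ᵁ (⊤ : S.Opens)).toScheme ↘ Spec (CommRingCat.of Γ(S, ⊤))) := by
    change j ≫ f ≫ S.toSpecΓ = (f ∣_ ⊤) ≫ hV.isoSpec.hom
    rw [IsAffineOpen.isoSpec_hom, Scheme.Opens.toSpecΓ_top, ← Category.assoc, ← Category.assoc, morphismRestrict_ι]
  obtain ⟨e₂⟩ := CohFinite.hh_push_linear Γ(S, ⊤) j hj (G.restrict j) (CohQC.directAcyclic_of_isAffineHom j _) i
  haveI := isIso_restrict_unit j G
  let e₃ := CohFinite.hhEquiv Γ(S, ⊤) (asIso ((Scheme.Modules.restrictAdjunction j).unit.app G)).symm i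
  have h2 : Module.FinitePresentation Γ(S, ⊤) (Coh.HH X G i) :=
    haveI := h1
    Module.FinitePresentation.of_equiv ((e₁.trans e₂).trans e₃)
  let σ : R ≃+* Γ(S, ⊤) := (Scheme.ΓSpecIso (CommRingCat.of R)).symm.commRingCatIsoToRingEquiv
  letI : Algebra R Γ(S, ⊤) := σ.toRingHom.toAlgebra
  haveI : IsScalarTower R Γ(S, ⊤) (Coh.HH X G i) := .of_algebraMap_smul fun r x => by
    change Coh.toGlobal (f ≫ S.toSpecΓ) (σ r) • (show Coh.HH X G i from x) =
      Coh.toGlobal f r • (show Coh.HH X G i from x)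
    congr 1
    change (f ≫ S.toSpecΓ).appTop ((Scheme.ΓSpecIso Γ(S, ⊤)).inv (σ r)) = f.appTop (σ r)
    rw [Scheme.Hom.comp_appTop, Scheme.toSpecΓ_appTop]
    exact congrArg f.appTop (ConcreteCategory.congr_hom (Scheme.ΓSpecIso Γ(S, ⊤)).inv_hom_id (σ r))
  haveI : Module.FinitePresentation R Γ(S, ⊤) := Module.FinitePresentation.of_equiv
    (AlgEquiv.ofBijective (Algebra.ofId R Γ(S, ⊤)) σ.bijective).toLinearEquiv
  haveI := h2
  exact Module.FinitePresentation.trans (R := R) (M := Coh.HH X G i) Γ(S, ⊤)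

end Groth.Agent.PerfPush
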