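import Groth.Agent.PerfPush.SplitAlg

/-!
`M ≅ A ⊞ Q` in `D(A)` with `Q` perfect of tor amplitude `≥ 1`.
-/

set_option autoImplicit false
set_option backward.isDefEq.respectTransparency false
set_option backward.isDefEq.respectTransparency.types false
set_option linter.style.haveILetI false

universe u

open CategoryTheory Limits DerivedCategory HomologicalComplex Pretriangulated

attribute [local instance] HasDerivedCategory.standard

namespace Groth.Agent.PerfPush

open Groth.Agent.DRingKP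

variable {A : Type u} [CommRing A]

theorem exists_split_perfect (M : Dual.D A) (hM : DRing.IsPerfect A M)
    (e₀ : (DerivedCategory.homologyFunctor (ModuleCat.{u} A) 0).obj M ≅ ModuleCat.of A A)
    [∀ m : Ideal A, DRing.HasLBaseChange (Ideal.Quotient.mk m)]
    (hneg : ∀ m : Ideal A, m.IsMaximal → ∀ i : ℤ, i < 0 → IsZero
      ((DerivedCategory.homologyFunctor (ModuleCat.{u} (A ⧸ m)) i).obj
        ((DRing.LBaseChange (Ideal.Quotient.mk m)).obj M)))
    (hzero : ∀ m : Ideal A, m.IsMaximal → Nonempty ((DerivedCategory.homologyFunctor (ModuleCat.{u} (A ⧸ m)) 0).obj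
        ((DRing.LBaseChange (Ideal.Quotient.mk m)).obj M) ≅ ModuleCat.of (A ⧸ m) (A ⧸ m))) :
    ∃ (Q : Dual.D A) (b : ℤ), DRing.IsPerfect A Q ∧ DRing.HasTorAmplitudeIn A 1 b Q ∧
      Nonempty (M ≅ (Dual.inD A A) ⊞ Q) := by
  obtain ⟨E, a₀, b₀, hE, hEp, ⟨eE⟩⟩ := id hM
  let b : ℤ := max b₀ 1
  have hamp : DRing.HasTorAmplitudeIn A 0 b M := by
    refine (amp_of_fibres (pc'_of_isPerfect hM) 0 b fun m hm i hi => ?_).2
    rcases hi with hi | hi
    · exact ModuleCat.subsingleton_of_isZero (hneg m hm i hi)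
    · haveI := isKProjective_of_finiteProjective b₀ (fun j hj => hE j (Or.inr hj)) hEp
      refine ModuleCat.subsingleton_of_isZero (IsZero.of_iso ?_
        ((DerivedCategory.homologyFunctor _ i).mapIso
          (((DRing.LBaseChange (Ideal.Quotient.mk m)).mapIso eE).symm ≪≫ lBaseChangeIso _ E) ≪≫
          (homologyFunctorFactors (ModuleCat.{u} (A ⧸ m)) i).app _))
      exact ShortComplex.isZero_homology_of_isZero_X₂ _
        ((ModuleCat.extendScalars.{u, u, u} (Ideal.Quotient.mk m)).map_isZero (hE i (Or.inr (by omega))))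
  obtain ⟨P, hP, hPp, ⟨eP⟩⟩ := exists_finiteProjective_rep (pc'_of_isPerfect hM) hamp
  haveI := isKProjective_of_finiteProjective b (fun j hj => hP j (Or.inr hj)) hPp
  -- the cohomology of the fibres of `P`
  have hfibP : ∀ (m : Ideal A) (i : ℤ),
      Nonempty (((bc (Ideal.Quotient.mk m)).obj P).homology i ≅
        (DerivedCategory.homologyFunctor (ModuleCat.{u} (A ⧸ m)) i).obj
          ((DRing.LBaseChange (Ideal.Quotient.mk m)).obj M)) := fun m i =>
    ⟨((homologyFunctorFactors (ModuleCat.{u} (A ⧸ m)) i).app _).symm ≪≫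
      (DerivedCategory.homologyFunctor _ i).mapIso
        ((lBaseChangeIso _ P).symm ≪≫ (DRing.LBaseChange (Ideal.Quotient.mk m)).mapIso eP)⟩
  obtain ⟨s, r, hsr⟩ := exists_splitting P hP hPp
    (((homologyFunctorFactors (ModuleCat.{u} A) 0).app P).symm ≪≫
      (DerivedCategory.homologyFunctor _ 0).mapIso eP ≪≫ e₀)
    fun m hm => ⟨(hfibP m 0).some ≪≫ (hzero m hm).some⟩
  haveI : IsSplitMono s := ⟨⟨r, hsr⟩⟩
  let S := ShortComplex.mk s (cokernel.π s) (cokernel.condition s)
  have hS : S.ShortExact :=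
    { exact := ShortComplex.exact_cokernel s, mono_f := inferInstanceAs (Mono s), epi_g := inferInstanceAs (Epi (cokernel.π s)) }
  let σ := ShortComplex.Splitting.ofExactOfRetraction S hS.exact r hsr hS.epi_g
  let Qc : DRing.Cx A := cokernel s
  let π : P ⟶ Qc := cokernel.π s
  let t : Qc ⟶ P := σ.s
  have htπ : t ≫ π = 𝟙 Qc := σ.s_g
  have hid : r ≫ s + π ≫ t = 𝟙 P := σ.id
  have hsπ : s ≫ π = 0 := cokernel.condition s
  have hte : ∀ i, t.f i ≫ π.f i = 𝟙 (Qc.X i) := fun i => by rw [← comp_f, htπ, id_f]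
  have hQv : DRing.VanishesOutside Qc 0 b := fun i hi =>
    (IsZero.iff_id_eq_zero _).2 (by rw [← hte i, (hP i hi).eq_of_tgt (t.f i) 0, zero_comp])
  have hQp : DRing.TermwiseFiniteProjective Qc := fun i => by
    haveI := (hPp i).1
    haveI := (hPp i).2
    have hinv : (π.f i).hom ∘ₗ (t.f i).hom = LinearMap.id := congrArg ModuleCat.Hom.hom (hte i)
    exact ⟨Module.Finite.of_surjective (π.f i).hom fun x => ⟨(t.f i).hom x, LinearMap.congr_fun hinv x⟩,
      Module.Projective.of_split (t.f i).hom (π.f i).hom hinv⟩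
  have hQperf : DRing.IsPerfect A (DRing.toD Qc) := ⟨Qc, 0, b, hQv, hQp, ⟨Iso.refl _⟩⟩
  haveI := isKProjective_of_finiteProjective b (fun j hj => hQv j (Or.inr hj)) hQp
  refine ⟨DRing.toD Qc, b, hQperf, (amp_of_fibres (pc'_of_isPerfect hQperf) 1 b fun m hm i hi => ?_).2, ?_⟩
  · let B := bc (Ideal.Quotient.mk m)
    let H := HomologicalComplex.homologyFunctor (ModuleCat.{u} (A ⧸ m)) (ComplexShape.up ℤ) i
    refine ModuleCat.subsingleton_of_isZero (IsZero.of_iso ?_
      ((DerivedCategory.homologyFunctor _ i).mapIso (lBaseChangeIso _ Qc) ≪≫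
        (homologyFunctorFactors (ModuleCat.{u} (A ⧸ m)) i).app _))
    change IsZero (H.obj (B.obj Qc))
    have hHte : H.map (B.map t) ≫ H.map (B.map π) = 𝟙 _ := by
      rw [← Functor.map_comp, ← Functor.map_comp, htπ, CategoryTheory.Functor.map_id, CategoryTheory.Functor.map_id]
    by_cases hi0 : i = 0
    · subst hi0
      obtain ⟨eκ⟩ : Nonempty (H.obj (B.obj P) ≅ ModuleCat.of (A ⧸ m) (A ⧸ m)) :=
        ⟨(hfibP m 0).some ≪≫ (hzero m hm).some⟩
      let S₀ := (single (ModuleCat.{u} A) (ComplexShape.up ℤ) 0).obj (ModuleCat.of A A)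
      let eS : H.obj (B.obj S₀) ≅ ModuleCat.of (A ⧸ m) (A ⧸ m) :=
        H.mapIso ((singleMapHomologicalComplex (ModuleCat.extendScalars.{u, u, u} (Ideal.Quotient.mk m))
          (ComplexShape.up ℤ) 0).app _) ≪≫ singleObjHomologySelfIso (ComplexShape.up ℤ) 0 _ ≪≫
          (show (ModuleCat.extendScalars.{u, u, u} (Ideal.Quotient.mk m)).obj (ModuleCat.of A A) ≅
              ModuleCat.of (A ⧸ m) (A ⧸ m) from
            letI := (Ideal.Quotient.mk m).toAlgebra
            (Algebra.TensorProduct.rid A (A ⧸ m) (A ⧸ m)).toLinearEquiv.toModuleIso)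
      letI := Ideal.Quotient.field m
      have hsm : H.map (B.map s) ≫ H.map (B.map r) = 𝟙 _ := by
        rw [← Functor.map_comp, ← Functor.map_comp, hsr, CategoryTheory.Functor.map_id, CategoryTheory.Functor.map_id]
      haveI : IsSplitMono (H.map (B.map s)) := ⟨⟨_, hsm⟩⟩
      let q : ModuleCat.of (A ⧸ m) (A ⧸ m) ⟶ ModuleCat.of (A ⧸ m) (A ⧸ m) := eS.inv ≫ H.map (B.map s) ≫ eκ.hom
      have hqi : Function.Injective q.hom := (ModuleCat.mono_iff_injective q).1 inferInstance
      have hqs : Function.Surjective q.hom :=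
        LinearMap.surjective_of_injective (f := q.hom) hqi
      haveI : Epi q := (ModuleCat.epi_iff_surjective q).2 hqs
      have hz : H.map (B.map π) = 0 := by
        have h1 : q ≫ eκ.inv ≫ H.map (B.map π) = 0 := by
          simp only [q, Category.assoc, Iso.hom_inv_id_assoc]
          rw [← Functor.map_comp, ← Functor.map_comp, hsπ, Functor.map_zero, Functor.map_zero, comp_zero]
        have h2 : eκ.inv ≫ H.map (B.map π) = 0 := (cancel_epi q).1 (h1.trans comp_zero.symm)
        rw [← Iso.hom_inv_id_assoc eκ (H.map (B.map π)), h2, comp_zero]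
      exact (IsZero.iff_id_eq_zero _).2 (by rw [← hHte, hz, comp_zero])
    · rcases hi with hi | hi
      · have hzP : IsZero (H.obj (B.obj P)) :=
          (hneg m hm i (by omega)).of_iso (hfibP m i).some
        exact (IsZero.iff_id_eq_zero _).2 (by rw [← hHte, hzP.eq_of_tgt (H.map (B.map t)) 0, zero_comp])
      · exact ShortComplex.isZero_homology_of_isZero_X₂ _
          ((ModuleCat.extendScalars.{u, u, u} (Ideal.Quotient.mk m)).map_isZero (hQv i (Or.inr (by omega))))
  · have hT := triangleOfSES_distinguished hS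
    have hz : (triangleOfSES hS).mor₃ = 0 := by
      have h1 : (triangleOfSES hS).mor₃ ≫ (DerivedCategory.Q.map s)⟦(1 : ℤ)⟧' = 0 :=
        comp_distTriang_mor_zero₃₁ _ hT
      have h2 : (DerivedCategory.Q.map s)⟦(1 : ℤ)⟧' ≫ (DerivedCategory.Q.map r)⟦(1 : ℤ)⟧' = 𝟙 _ := by
        rw [← Functor.map_comp, ← Functor.map_comp, hsr, CategoryTheory.Functor.map_id, CategoryTheory.Functor.map_id]
      have h3 := congrArg (· ≫ (DerivedCategory.Q.map r)⟦(1 : ℤ)⟧') h1
      exact ((Category.comp_id _).symm.trans (congrArg ((triangleOfSES hS).mor₃ ≫ ·) h2.symm)).trans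
        ((Category.assoc _ _ _).symm.trans (h3.trans zero_comp))
    obtain ⟨e, -, -⟩ := exists_iso_binaryBiproduct_of_distTriang _ hT hz
    exact ⟨eP.symm ≪≫ e ≪≫ biprod.mapIso
      ((DerivedCategory.singleFunctorIsoCompQ (ModuleCat.{u} A) 0).app _).symm (Iso.refl _)⟩

end Groth.Agent.PerfPush
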