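import Groth.Agent.PerfPush.Fibre
import Groth.Agent.PerfPush.H0
import Groth.Agent.PerfPush.SplitD
import Groth.Agent.TildeKFlat.Lpull
import Groth.Agent.DQCoh.TopCohom
import Groth.Agent.KFlat.TorFlat

/-!
`Rf_* O_X ≅ O_S ⊕ P` with `P` of tor amplitude `≥ 1` over an affine base, for proper flat `f` of finite
presentation whose fibres have only constant functions.
-/

set_option autoImplicit false
set_option backward.isDefEq.respectTransparency false
set_option backward.isDefEq.respectTransparency.types false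
set_option linter.style.haveILetI false

universe u

open CategoryTheory Limits AlgebraicGeometry Pretriangulated

attribute [local instance] HasDerivedCategory.standard

namespace Groth.Agent.PerfPush

open Groth.Agent.DQCoh (RD rC rdIso)

variable {X S : Scheme.{u}}

/-- constant functions on all fibres pass to every field-valued point -/
theorem isIso_snd_appTop (f : X ⟶ S) [IsProper f] [Flat f]
    (h : ∀ s : S, IsIso (f.fiberToSpecResidueField s).appTop) {k : Type u} [Field k]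
    (g : Spec (CommRingCat.of k) ⟶ S) {P : Scheme.{u}} {p : P ⟶ X} {q : P ⟶ Spec (CommRingCat.of k)}
    (H : IsPullback p q f g) : IsIso q.appTop := by
  obtain ⟨⟨t, a⟩, rfl⟩ : ∃ xf, (Scheme.SpecToEquivOfField k S).symm xf = g :=
    ⟨_, (Scheme.SpecToEquivOfField k S).symm_apply_apply g⟩
  change IsPullback p q f (Spec.map a ≫ S.fromSpecResidueField t) at H
  have H0 := IsPullback.of_hasPullback f (S.fromSpecResidueField t)
  let b : P ⟶ f.fiber t := pullback.lift p (q ≫ Spec.map a) (by rw [Category.assoc]; exact H.w)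
  have sq : IsPullback b q (f.fiberToSpecResidueField t) (Spec.map a) := by
    refine IsPullback.of_right ?_ (pullback.lift_snd _ _ _) H0
    rw [pullback.lift_fst]
    exact H
  let K : Type u := S.residueField t
  let f' : f.fiber t ⟶ Spec (CommRingCat.of K) := f.fiberToSpecResidueField t
  haveI : IsProper f' := MorphismProperty.of_isPullback H0 ‹IsProper f›
  haveI : Flat f' := MorphismProperty.of_isPullback H0 ‹Flat f›
  haveI : CompactSpace (f.fiber t) := QuasiCompact.compactSpace_of_compactSpace f'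
  haveI : (f.fiber t).IsSeparated := by
    constructor
    rw [← terminal.comp_from f']
    infer_instance
  have hflat : (Spec.map a).appTop.hom.Flat := GammaProd.flat_appTop_field (K := K) (Spec.map a)
  have HP := GammaProd.isPushout_appTop hflat sq
  exact HP.isIso_inr_of_isIso (h t)

theorem nonempty_unit_iso_push (f : X ⟶ S) (h : ∀ V : S.Opens, IsIso (f.app V)) :
    Nonempty (Coh.structureModule S ≅ (Coh.push f).obj (Coh.structureModule X)) := by
  let φ : Coh.structureModule S ⟶ (Scheme.Modules.pushforward f).obj (Coh.structureModule X) :=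
    SheafOfModules.unitToPushforwardObjUnit f.toRingCatSheafHom
  haveI : IsIso φ := Scheme.Modules.Hom.isIso_iff_isIso_app.2 fun V => by
    haveI := h V
    exact (ConcreteCategory.isIso_iff_bijective _).2 (ConcreteCategory.bijective_of_isIso (f.app V))
  exact ⟨asIso φ⟩

theorem isIso_app_field {k : Type u} [Field k] {Z : Scheme.{u}} (q : Z ⟶ Spec (CommRingCat.of k))
    (hq : IsIso q.appTop) (V : (Spec (CommRingCat.of k)).Opens) : IsIso (q.app V) := by
  haveI : Subsingleton (Spec (CommRingCat.of k)) := inferInstanceAs (Subsingleton (PrimeSpectrum k))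
  by_cases hV : ∃ x, x ∈ V
  · obtain ⟨x, hx⟩ := hV
    obtain rfl : V = ⊤ := top_unique fun y _ => Subsingleton.elim x y ▸ hx
    exact hq
  · obtain rfl : V = ⊥ := eq_bot_iff.2 fun x hx => (hV ⟨x, hx⟩).elim
    refine (ConcreteCategory.isIso_iff_bijective _).2 ?_
    haveI : Subsingleton Γ(Z, q ⁻¹ᵁ ⊥) := by
      rw [show q ⁻¹ᵁ (⊥ : (Spec (CommRingCat.of k)).Opens) = ⊥ from eq_bot_iff.2 fun x hx => hx.elim]
      infer_instance
    exact ⟨fun _ _ _ => Subsingleton.elim _ _, fun y => ⟨0, Subsingleton.elim _ _⟩⟩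

theorem nonempty_hd_zero (f : X ⟶ S) [DCoh.HasRpush f] (F : X.Modules) :
    Nonempty (DCoh.HD ((DCoh.Rpush f).obj (DCoh.inD X F)) 0 ≅ (Coh.push f).obj F) := by
  haveI := DQPush.hasInj X
  haveI : HasInjectiveResolutions (ModSite.Mod X.sheaf) := DQPush.hasInj X
  haveI : SiteCmp.HasRpushD (ModSite.RMor.ofScheme f) := ‹DCoh.HasRpush f›
  obtain ⟨a⟩ := RPushSite.nonempty_homology_single (ModSite.RMor.ofScheme f) F 0
  exact ⟨a ≪≫ (Coh.push f).rightDerivedZeroIsoSelf.app F⟩

/-- the splitting over an affine base -/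
theorem exists_split_spec {A : Type u} [CommRing A] (f : X ⟶ Spec (CommRingCat.of A)) [IsProper f] [Flat f]
    [LocallyOfFinitePresentation f] (h : ∀ s, IsIso (f.fiberToSpecResidueField s).appTop) [DCoh.HasRpush f] :
    ∃ (P : DCoh.D (Spec (CommRingCat.of A))) (b : ℤ), DCoh.IsPerfect P ∧ DCoh.HasFlatAmplitudeIn 1 b P ∧
      Nonempty ((DCoh.Rpush f).obj (DCoh.inD X (Coh.structureModule X)) ≅
        DCoh.inD _ (Coh.structureModule (Spec (CommRingCat.of A))) ⊞ P) := by
  let Y := Spec (CommRingCat.of A)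
  haveI : PreservesFiniteLimits (tilde.functor (CommRingCat.of A)) := QC.tilde_preservesFiniteLimits
  haveI : ∀ m : Ideal A, DRing.HasLBaseChange (Ideal.Quotient.mk m) := fun m => DRingKP.hasLBaseChange _
  have hF : CohB1.IsFP (Coh.structureModule X) := SchDense.isFP_unit X
  have hflat : FlatMod.IsFlatOver f (Coh.structureModule X) := SchDense.isFlatOver_unit f
  have hsupp : ClSub.IsProperOver f (CohB1.support (Coh.structureModule X)) :=
    ClSubLib.isProperOver_of_subset f (𝟙 X) _ (QC.isClosed_support (ModDesc.isFT_of_isFP hF)) (by simp)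
  let K := (DCoh.Rpush f).obj (DCoh.inD X (Coh.structureModule X))
  have hK : DCoh.IsPerfect K := isPerfect_rpush_inD f _ hF hflat hsupp
  obtain ⟨M, ⟨eM⟩⟩ := RelPCS.exists_tilde_rep (P := A) K (PerfGen.isQCohD_of_isPerfect hK)
  have hMp : DRing.IsPerfect A M := (DQCoh.perfect_tilde_iff (A := A) M).1 (DQCoh.perfect_of_iso eM.symm hK)
  let T := tilde.fullyFaithfulFunctor (R := CommRingCat.of A)
  obtain ⟨hpush⟩ := nonempty_hd_zero f (Coh.structureModule X)
  obtain ⟨hunit⟩ := nonempty_unit_iso_push f (isIso_app f h)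
  let e₀ : (DerivedCategory.homologyFunctor (ModuleCat.{u} A) 0).obj M ≅ ModuleCat.of A A :=
    T.preimageIso ((DQCoh.hdTildeIso (R := CommRingCat.of A) M 0).symm ≪≫
      (DerivedCategory.homologyFunctor _ 0).mapIso eM ≪≫ hpush ≪≫ hunit.symm ≪≫
      (AlgebraicGeometry.tildeSelf (R := CommRingCat.of A)).symm)
  -- the fibres
  have hfib : ∀ m : Ideal A, m.IsMaximal →
      (∀ i : ℤ, i < 0 → IsZero ((DerivedCategory.homologyFunctor (ModuleCat.{u} (A ⧸ m)) i).obj
        ((DRing.LBaseChange (Ideal.Quotient.mk m)).obj M))) ∧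
      Nonempty ((DerivedCategory.homologyFunctor (ModuleCat.{u} (A ⧸ m)) 0).obj
        ((DRing.LBaseChange (Ideal.Quotient.mk m)).obj M) ≅ ModuleCat.of (A ⧸ m) (A ⧸ m)) := fun m hm => by
    haveI : PreservesFiniteLimits (tilde.functor (CommRingCat.of (A ⧸ m))) := QC.tilde_preservesFiniteLimits
    let g : Spec (CommRingCat.of (A ⧸ m)) ⟶ Y := Spec.map (CommRingCat.ofHom (Ideal.Quotient.mk m))
    haveI := KFlat.hasLpull g
    haveI := DerPush.hasRpush_sch (pullback.snd f g)
    letI := Ideal.Quotient.field m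
    have H := IsPullback.of_hasPullback f g
    obtain ⟨bc⟩ := nonempty_baseChange_inD H (Coh.structureModule X) (QC.isQCoh_unit X) hflat
    obtain ⟨τ⟩ := TildeKFlat.nonempty_lpull_tildeD (Ideal.Quotient.mk m)
    let e : (DCoh.tildeD (CommRingCat.of (A ⧸ m))).obj ((DRing.LBaseChange (Ideal.Quotient.mk m)).obj M) ≅
        (DCoh.Rpush (pullback.snd f g)).obj (DCoh.inD _ (Coh.structureModule (pullback f g))) :=
      τ.app M ≪≫ (DCoh.Lpull g).mapIso eM ≪≫ bc ≪≫
        (DCoh.Rpush _).mapIso ((DerivedCategory.singleFunctor _ 0).mapIso (DerPerf.pullUnitIso (pullback.fst f g)))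
    let Tm := tilde.fullyFaithfulFunctor (R := CommRingCat.of (A ⧸ m))
    refine ⟨fun i hi => ?_, ?_⟩
    · haveI := DQPush.isGE_rpush (pullback.snd f g) (DCoh.inD _ (Coh.structureModule (pullback f g))) 0
      have hz : IsZero ((tilde.functor (CommRingCat.of (A ⧸ m))).obj
          ((DerivedCategory.homologyFunctor (ModuleCat.{u} (A ⧸ m)) i).obj
            ((DRing.LBaseChange (Ideal.Quotient.mk m)).obj M))) :=
        (DerivedCategory.isZero_of_isGE ((DCoh.Rpush (pullback.snd f g)).obj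
            (DCoh.inD _ (Coh.structureModule (pullback f g)))) 0 i hi).of_iso
          ((DQCoh.hdTildeIso (R := CommRingCat.of (A ⧸ m)) _ i).symm ≪≫
            (DerivedCategory.homologyFunctor _ i).mapIso e)
      exact (IsZero.iff_id_eq_zero _).2 (Tm.map_injective (hz.eq_of_src _ _))
    · obtain ⟨h1⟩ := nonempty_hd_zero (pullback.snd f g) (Coh.structureModule (pullback f g))
      obtain ⟨h2⟩ := nonempty_unit_iso_push (pullback.snd f g)
        (isIso_app_field _ (isIso_snd_appTop f h g H))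
      exact ⟨Tm.preimageIso ((DQCoh.hdTildeIso (R := CommRingCat.of (A ⧸ m)) _ 0).symm ≪≫
        (DerivedCategory.homologyFunctor _ 0).mapIso e ≪≫ h1 ≪≫ h2.symm ≪≫
        (AlgebraicGeometry.tildeSelf (R := CommRingCat.of (A ⧸ m))).symm)⟩
  obtain ⟨Q, b, hQp, hQa, ⟨eQ⟩⟩ := exists_split_perfect M hMp e₀ (fun m hm => (hfib m hm).1)
    (fun m hm => (hfib m hm).2)
  refine ⟨(DCoh.tildeD (CommRingCat.of A)).obj Q, max b 1, (DQCoh.perfect_tilde_iff (A := A) Q).2 hQp, ?_, ?_⟩
  · obtain ⟨E, hE, hEp, ⟨eE⟩⟩ := DRingKP.exists_finiteProjective_rep (DRingKP.pc'_of_isPerfect hQp) hQa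
    have hsp := DQCoh.isStrictlyPerfect_tilde (A := A) hE hEp
    refine
      ⟨((tilde.functor (CommRingCat.of A)).mapHomologicalComplex (ComplexShape.up ℤ)).obj E, fun i hi => ?_,
        fun i => DerPerf.isFlat_of_isFinLocFree (hsp.2 i), ⟨?_⟩⟩
    · exact (tilde.functor (CommRingCat.of A)).map_isZero
        (hE i (hi.imp id fun hi => lt_of_le_of_lt (le_max_left _ _) hi))
    · exact ((tilde.functor (CommRingCat.of A)).mapDerivedCategoryFactors.app E).symm ≪≫
        (DCoh.tildeD (CommRingCat.of A)).mapIso eE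
  · haveI := preservesBinaryBiproducts_of_preservesBiproducts (DCoh.tildeD (CommRingCat.of A))
    exact ⟨eM.symm ≪≫ (DCoh.tildeD (CommRingCat.of A)).mapIso eQ ≪≫
      (DCoh.tildeD (CommRingCat.of A)).mapBiprod _ _ ≪≫
      biprod.mapIso (((tilde.functor (CommRingCat.of A)).mapDerivedCategorySingleFunctor 0).app _ ≪≫
        (DerivedCategory.singleFunctor _ 0).mapIso (AlgebraicGeometry.tildeSelf (R := CommRingCat.of A))) (Iso.refl _)⟩

/-- the splitting over an affine open of any base -/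
theorem exists_split (f : X ⟶ S) [IsProper f] [Flat f] [LocallyOfFinitePresentation f]
    (h : ∀ s : S, IsIso (f.fiberToSpecResidueField s).appTop) {V : S.Opens} (hV : IsAffineOpen V)
    [DCoh.HasRpush (f ∣_ V)] :
    ∃ (P : DCoh.D (V : Scheme.{u})) (b : ℤ), DCoh.IsPerfect P ∧ DCoh.HasTorAmplitudeIn 1 b P ∧
      Nonempty ((DCoh.Rpush (f ∣_ V)).obj (DCoh.inD (f ⁻¹ᵁ V : Scheme.{u}) (Coh.structureModule (f ⁻¹ᵁ V : Scheme.{u}))) ≅
        DCoh.inD (V : Scheme.{u}) (Coh.structureModule (V : Scheme.{u})) ⊞ P) := by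
  let χ : (V : Scheme.{u}) ⟶ Spec (CommRingCat.of Γ(S, V)) := hV.isoSpec.hom
  let ψ : Spec (CommRingCat.of Γ(S, V)) ⟶ (V : Scheme.{u}) := hV.isoSpec.inv
  haveI : IsIso χ := inferInstanceAs (IsIso hV.isoSpec.hom)
  haveI : IsIso ψ := inferInstanceAs (IsIso hV.isoSpec.inv)
  have hχψ : χ ≫ ψ = 𝟙 _ := hV.isoSpec.hom_inv_id
  let fV := f ∣_ V
  let f₁ : (f ⁻¹ᵁ V : Scheme.{u}) ⟶ Spec (CommRingCat.of Γ(S, V)) := fV ≫ χ
  haveI : IsProper fV := IsZariskiLocalAtTarget.restrict (P := @IsProper) ‹_› V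
  haveI : Flat fV := IsZariskiLocalAtTarget.restrict (P := @Flat) ‹_› V
  haveI : LocallyOfFinitePresentation fV := IsZariskiLocalAtTarget.restrict (P := @LocallyOfFinitePresentation) ‹_› V
  haveI : IsProper f₁ := inferInstanceAs (IsProper (fV ≫ χ))
  haveI : Flat f₁ := inferInstanceAs (Flat (fV ≫ χ))
  haveI : LocallyOfFinitePresentation f₁ := inferInstanceAs (LocallyOfFinitePresentation (fV ≫ χ))
  haveI := DerPush.hasRpush_sch f₁
  haveI := KFlat.hasLpull ψ
  haveI := KFlat.hasLpull χ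
  have Hsq : IsPullback (𝟙 (f ⁻¹ᵁ V : Scheme.{u})) f₁ fV ψ :=
    IsPullback.of_horiz_isIso ⟨by rw [Category.id_comp, Category.assoc, hχψ, Category.comp_id]⟩
  have Hout : IsPullback (f ⁻¹ᵁ V).ι f₁ f (ψ ≫ V.ι) := by
    have h1 := Hsq.paste_horiz (isPullback_morphismRestrict f V).flip
    rwa [Category.id_comp] at h1
  have h₁ : ∀ s, IsIso (f₁.fiberToSpecResidueField s).appTop := fun s =>
    isIso_snd_appTop f h (k := (Spec (CommRingCat.of Γ(S, V))).residueField s)
      ((Spec (CommRingCat.of Γ(S, V))).fromSpecResidueField s ≫ ψ ≫ V.ι)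
      ((IsPullback.of_hasPullback f₁ ((Spec (CommRingCat.of Γ(S, V))).fromSpecResidueField s)).paste_horiz Hout)
  obtain ⟨P, b, hPp, hPa, ⟨eP⟩⟩ := exists_split_spec f₁ h₁
  obtain ⟨bc⟩ := nonempty_baseChange_inD Hsq (Coh.structureModule _) (QC.isQCoh_unit _) (SchDense.isFlatOver_unit fV)
  let K := (DCoh.Rpush fV).obj (DCoh.inD _ (Coh.structureModule (f ⁻¹ᵁ V : Scheme.{u})))
  let e₁ : (DCoh.Lpull ψ).obj K ≅ DCoh.inD _ (Coh.structureModule (Spec (CommRingCat.of Γ(S, V)))) ⊞ P :=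
    bc ≪≫ (DCoh.Rpush f₁).mapIso ((DerivedCategory.singleFunctor _ 0).mapIso (DerPerf.pullUnitIso _)) ≪≫ eP
  refine ⟨(DCoh.Lpull χ).obj P, b, DerPerf.isPerfect_Lpull _ _ hPp,
    KFlat.torAmplitude_Lpull_sch χ P 1 b hPa, ?_⟩
  obtain ⟨r₁⟩ := nonempty_lpull_RD ψ K
  obtain ⟨r₂⟩ := nonempty_lpull_RD χ ((DCoh.Lpull ψ).obj K)
  let eid : (RD (𝟙 (V : Scheme.{u}))).obj K ≅ K :=
    (RD (𝟙 (V : Scheme.{u}))).mapIso (DerivedCategory.Q.objObjPreimageIso K).symm ≪≫ rdIso (𝟙 _) _ ≪≫
      DerivedCategory.Q.mapIso (((NatIso.mapHomologicalComplex Scheme.Modules.restrictFunctorId (ComplexShape.up ℤ)).app _) ≪≫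
        (Functor.mapHomologicalComplexIdIso _ _).app _) ≪≫ DerivedCategory.Q.objObjPreimageIso K
  let e₂ : (DCoh.Lpull χ).obj ((DCoh.Lpull ψ).obj K) ≅ K :=
    r₂ ≪≫ (RD χ).mapIso r₁ ≪≫ ((DQCoh.rdComp χ ψ).app K).symm ≪≫ (DQCoh.rdCongr hχψ).app K ≪≫ eid
  obtain ⟨u⟩ := nonempty_lpull_unit χ
  obtain ⟨adj⟩ := DerPush.nonempty_lpull_adj_rpush χ
  haveI := DerPush.hasRpush_sch χ
  haveI : (DCoh.Lpull χ).IsLeftAdjoint := adj.isLeftAdjoint
  haveI := Limits.preservesBinaryBiproducts_of_preservesBinaryCoproducts (DCoh.Lpull χ)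
  exact ⟨e₂.symm ≪≫ (DCoh.Lpull χ).mapIso e₁ ≪≫ (DCoh.Lpull χ).mapBiprod _ _ ≪≫
    biprod.mapIso u (Iso.refl _)⟩

end Groth.Agent.PerfPush
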