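import Groth.Agent.DRingKP.Fibre
import Groth.Agent.DRingKP.TorAmp
import Groth.Agent.FlatCx.Homology
import Mathlib.LinearAlgebra.Dual.Lemmas

/-!
Splitting `A` off a perfect complex whose `H^0` is `A` and whose fibres have `H^0` of rank one.
-/

set_option autoImplicit false
set_option backward.isDefEq.respectTransparency false
set_option backward.isDefEq.respectTransparency.types false
set_option linter.style.haveILetI false

universe u

open CategoryTheory Limits DerivedCategory MonoidalCategory HomologicalComplex Pretriangulated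

attribute [local instance] HasDerivedCategory.standard

namespace Groth.Agent.PerfPush

open Groth.Agent.DRingKP

variable {A : Type u} [CommRing A]

/-- a retraction up to a scalar outside `m` of a map which is injective modulo `m` -/
theorem exists_retraction_at {C F : Type u} [AddCommGroup C] [Module A C] [AddCommGroup F]
    [Module A F] [Module.Finite A C] [Module.Projective A F] (δ : C →ₗ[A] F) (m : Ideal A) [m.IsMaximal]
    (h : ∀ x, δ x ∈ m • (⊤ : Submodule A F) → x ∈ m • (⊤ : Submodule A C)) :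
    ∃ (c : A) (r : F →ₗ[A] C), c ∉ m ∧ r ∘ₗ δ = c • LinearMap.id := by
  letI := Ideal.Quotient.field m
  let V := C ⧸ m • (⊤ : Submodule A C)
  let W := F ⧸ m • (⊤ : Submodule A F)
  let δ₀ : V →ₗ[A] W := (m • (⊤ : Submodule A C)).mapQ (m • (⊤ : Submodule A F)) δ (by
    rw [← Submodule.map_le_iff_le_comap, Submodule.map_smul'']
    exact Submodule.smul_mono le_rfl le_top)
  let δm : V →ₗ[A ⧸ m] W :=
    { toFun := δ₀
      map_add' := map_add δ₀
      map_smul' := fun a x => by
        obtain ⟨a, rfl⟩ := Ideal.Quotient.mk_surjective a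
        exact δ₀.map_smul a x }
  have hinj : LinearMap.ker δm = ⊥ := by
    rw [eq_bot_iff]
    intro x hx
    obtain ⟨x, rfl⟩ := Submodule.Quotient.mk_surjective _ x
    exact (Submodule.Quotient.mk_eq_zero _).2 (h x ((Submodule.Quotient.mk_eq_zero _).1 hx))
  obtain ⟨g, hg⟩ := δm.exists_leftInverse_of_injective hinj
  let g₀ : W →ₗ[A] V :=
    { toFun := g
      map_add' := map_add g
      map_smul' := fun a x => g.map_smul (Ideal.Quotient.mk m a) x }
  obtain ⟨s, hs⟩ := Module.projective_lifting_property (m • (⊤ : Submodule A C)).mkQ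
    (g₀ ∘ₗ (m • (⊤ : Submodule A F)).mkQ) (Submodule.mkQ_surjective _)
  let φ : Module.End A C := 1 - s ∘ₗ δ
  have hφ : LinearMap.range φ ≤ m • ⊤ := by
    rintro _ ⟨x, rfl⟩
    refine (Submodule.Quotient.mk_eq_zero _).1 ?_
    change (m • (⊤ : Submodule A C)).mkQ (x - s (δ x)) = 0
    rw [map_sub, sub_eq_zero]
    exact ((LinearMap.congr_fun hs (δ x)).trans (LinearMap.congr_fun hg (Submodule.Quotient.mk x))).symm
  obtain ⟨p, hp, -, hcoeff, hp0⟩ :=
    LinearMap.exists_monic_and_natDegree_eq_and_coeff_mem_pow_and_aeval_eq_zero (R := A) φ m hφ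
  have hc : p.eval 1 ∉ m := by
    have hmap : p.map (Ideal.Quotient.mk m) = Polynomial.X ^ p.natDegree := by
      ext k
      rw [Polynomial.coeff_map, Polynomial.coeff_X_pow]
      rcases lt_trichotomy k p.natDegree with hk | rfl | hk
      · rw [if_neg hk.ne, Ideal.Quotient.eq_zero_iff_mem]
        exact Ideal.pow_le_self (by omega) (hcoeff k)
      · rw [if_pos rfl, hp.coeff_natDegree, map_one]
      · rw [if_neg hk.ne', Polynomial.coeff_eq_zero_of_natDegree_lt hk, map_zero]
    intro hmem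
    have := (Polynomial.eval_map_apply (f := Ideal.Quotient.mk m) (p := p) 1).trans
      (Ideal.Quotient.eq_zero_iff_mem.2 hmem)
    rw [hmap, map_one] at this
    simp at this
  obtain ⟨q, hq⟩ := Polynomial.X_sub_C_dvd_sub_C_eval (p := p) (a := 1)
  refine ⟨p.eval 1, (Polynomial.aeval φ q) ∘ₗ s, hc, ?_⟩
  have h0 : (Polynomial.aeval φ) (p - Polynomial.C (p.eval 1)) = (Polynomial.aeval φ) (q * (Polynomial.X - Polynomial.C 1)) := by rw [hq, mul_comm]
  simp only [map_sub, map_mul, Polynomial.aeval_C, Polynomial.aeval_X, hp0, map_one, zero_sub] at h0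
  have h1 : φ - 1 = -(s ∘ₗ δ) := by simp [φ]
  rw [h1, mul_neg, neg_inj] at h0
  rw [LinearMap.comp_assoc]
  exact h0.symm.trans (by ext x; simp)

/-- a generator of a free rank one kernel is not killed by all functionals modulo `m`, when the kernel
modulo `m` has rank at most one -/
theorem exists_functional_notMem {F G : Type u} [AddCommGroup F] [Module A F] [AddCommGroup G] [Module A G]
    [Module.Finite A F] [Module.Projective A F] [Module.Projective A G] (d : F →ₗ[A] G) (e : F) (hde : d e = 0)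
    (hker : ∀ x, d x = 0 → ∃ a : A, x = a • e) (hfree : ∀ a : A, a • e = 0 → a = 0) (m : Ideal A) [m.IsMaximal]
    (hline : ∀ x y, d x ∈ m • (⊤ : Submodule A G) → d y ∈ m • (⊤ : Submodule A G) →
      ∃ a b : A, (a ∉ m ∨ b ∉ m) ∧ a • x + b • y ∈ m • (⊤ : Submodule A F)) :
    ∃ l : F →ₗ[A] A, l e ∉ m := by
  by_cases hv : ∀ x, d x ∈ m • (⊤ : Submodule A G) → x ∈ m • (⊤ : Submodule A F)
  · exfalso
    obtain ⟨c, r, hc, hr⟩ := exists_retraction_at d m hv
    have h1 : c • e = 0 := by
      have := LinearMap.congr_fun hr e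
      rw [LinearMap.comp_apply, hde, map_zero] at this
      exact this.symm
    exact hc (hfree c h1 ▸ m.zero_mem)
  push Not at hv
  obtain ⟨v, hdv, hv⟩ := hv
  obtain ⟨c, l, hc, hl⟩ := exists_retraction_at (LinearMap.toSpanSingleton A F v) m fun a ha => by
    change a • v ∈ _ at ha
    by_cases ham : a ∈ m
    · rw [smul_eq_mul, Ideal.mul_top]; exact ham
    · exfalso
      obtain ⟨b, i, hi, hab⟩ := Ideal.IsMaximal.exists_inv ‹m.IsMaximal› ham
      refine hv ?_
      have : v = b • (a • v) + i • v := by rw [smul_smul, ← add_smul, hab, one_smul]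
      rw [this]
      exact add_mem (Submodule.smul_mem _ b ha) (Submodule.smul_mem_smul hi trivial)
  have hlv : l v = c := by simpa using LinearMap.congr_fun hl 1
  -- `(l, d)` is injective modulo `m`
  have hinj : ∀ x, (l.prod d) x ∈ m • (⊤ : Submodule A (A × G)) → x ∈ m • (⊤ : Submodule A F) := fun x hx => by
    have h1 : l x ∈ m := by
      have := Submodule.mem_map_of_mem (f := LinearMap.fst A A G) hx
      rw [Submodule.map_smul''] at this
      have := Submodule.smul_mono (le_refl m) le_top this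
      rwa [smul_eq_mul, Ideal.mul_top] at this
    have h2 : d x ∈ m • (⊤ : Submodule A G) := by
      have := Submodule.mem_map_of_mem (f := LinearMap.snd A A G) hx
      rw [Submodule.map_smul''] at this
      exact Submodule.smul_mono (le_refl m) le_top this
    obtain ⟨a, b, hab, hmem⟩ := hline x v h2 hdv
    have hb : b ∈ m := by
      have := Submodule.mem_map_of_mem (f := l) hmem
      rw [Submodule.map_smul''] at this
      have := Submodule.smul_mono (le_refl m) le_top this
      rw [smul_eq_mul, Ideal.mul_top, map_add, map_smul, map_smul, hlv, smul_eq_mul, smul_eq_mul] at this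
      exact ((‹m.IsMaximal›.isPrime.mem_or_mem ((add_mem_cancel_left (m.mul_mem_left a h1)).1 this)).resolve_right hc)
    obtain ⟨a', i, hi, ha'⟩ := Ideal.IsMaximal.exists_inv ‹m.IsMaximal› (hab.resolve_right (fun h => h hb))
    have : x = a' • (a • x + b • v) - (a' * b) • v + i • x := by
      rw [smul_add, smul_smul, smul_smul, add_sub_cancel_right, ← add_smul, ha', one_smul]
    rw [this]
    exact add_mem (sub_mem (Submodule.smul_mem _ a' hmem) (Submodule.smul_mem_smul (m.mul_mem_left a' hb) trivial))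
      (Submodule.smul_mem_smul hi trivial)
  obtain ⟨s, r, hs, hr⟩ := exists_retraction_at (l.prod d) m hinj
  refine ⟨l, fun hle => hs (‹m.IsMaximal›.isPrime.mem_or_mem (?_ : s * s ∈ m) |>.elim id id)⟩
  let w : F := r (1, 0)
  have hse : s • e = l e • w := by
    have := LinearMap.congr_fun hr e
    simp only [LinearMap.comp_apply, LinearMap.prod_apply, Function.prod_apply, LinearMap.smul_apply,
      LinearMap.id_apply, hde] at this
    rw [← this, ← map_smul]
    simp
  have hdw : d (s • w) = 0 := by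
    rw [← Module.forall_dual_apply_eq_zero_iff A]
    intro μ
    rw [map_smul, map_smul, smul_eq_mul]
    refine hfree _ ?_
    have h0 : l e * μ (d w) = 0 := by
      have := congrArg (fun z => μ (d z)) hse
      simp only [map_smul, hde, smul_zero, map_zero, smul_eq_mul] at this
      exact this.symm
    rw [mul_comm, mul_smul, hse, smul_smul, mul_comm, h0, zero_smul]
  obtain ⟨t, ht⟩ := hker _ hdw
  have : (s * s - l e * t) • e = 0 := by
    rw [sub_smul, mul_smul, mul_smul, hse, ← ht, smul_comm s (l e) w, sub_self]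
  rw [sub_eq_zero.1 (hfree _ this)]
  exact m.mul_mem_right t hle

/-- the line condition from the homology of the fibre -/
theorem line_of_fibre (P : DRing.Cx A) (hneg : IsZero (P.X (-1))) (m : Ideal A) [hm : m.IsMaximal]
    (e₀ : ((bc (Ideal.Quotient.mk m)).obj P).homology 0 ≅ ModuleCat.of (A ⧸ m) (A ⧸ m))
    (x y : P.X 0) (hx : (P.d 0 1).hom x ∈ m • (⊤ : Submodule A (P.X 1)))
    (hy : (P.d 0 1).hom y ∈ m • (⊤ : Submodule A (P.X 1))) :
    ∃ a b : A, (a ∉ m ∨ b ∉ m) ∧ a • x + b • y ∈ m • (⊤ : Submodule A (P.X 0)) := by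
  let φ := Ideal.Quotient.mk m
  let B₀ := (ModuleCat.restrictScalars.{u} φ).obj (ModuleCat.of (A ⧸ m) (A ⧸ m))
  let eB : B₀ ≃ₗ[A] A ⧸ m :=
    { toFun := fun x => x
      map_add' := fun _ _ => rfl
      map_smul' := fun a x => rfl
      invFun := fun x => x
      left_inv := fun _ => rfl
      right_inv := fun _ => rfl }
  let R := ModuleCat.restrictScalars.{u} φ
  let K := (tR B₀).obj P
  let θ : K.homology 0 ≅ B₀ :=
    (HomologicalComplex.homologyFunctor _ _ 0).mapIso (bcRestrictIso φ P).symm ≪≫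
      (((bc φ).obj P).sc 0).mapHomologyIso R ≪≫ R.mapIso e₀
  haveI : IsIso (K.homologyπ 0) := K.isIso_homologyπ (-1) 0 (by simp)
    (((tensorRight B₀).map_isZero hneg).eq_of_src _ _)
  let u : ∀ k, P.X k →ₗ[A] TensorProduct A (P.X k) B₀ := fun k =>
    (TensorProduct.mk A (P.X k) B₀).flip (eB.symm (Ideal.Quotient.mk m 1))
  let ev : ∀ k, TensorProduct A (P.X k) B₀ ≃ₗ[A] P.X k ⧸ m • (⊤ : Submodule A (P.X k)) := fun k =>
    TensorProduct.congr (LinearEquiv.refl A (P.X k)) eB ≪≫ₗ TensorProduct.tensorQuotEquivQuotSMul (P.X k) m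
  have hev : ∀ k z, ev k (u k z) = Submodule.Quotient.mk z := fun k z => by
    refine (TensorProduct.tensorQuotEquivQuotSMul_tmul_mk m z 1).trans ?_
    rw [one_smul]
  have hcyc : ∀ z : P.X 0, (P.d 0 1).hom z ∈ m • (⊤ : Submodule A (P.X 1)) →
      ∃ c : K.cycles 0, K.iCycles 0 c = u 0 z := fun z hz => by
    refine FlatCx.exists_cycles (K := K) (j := 0) (k := 1) (by simp) (u 0 z) ?_
    have : u 1 ((P.d 0 1).hom z) = 0 := (ev 1).injective (by
      rw [hev, map_zero]; exact (Submodule.Quotient.mk_eq_zero _).2 hz)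
    exact this
  obtain ⟨cx, hcx⟩ := hcyc x hx
  obtain ⟨cy, hcy⟩ := hcyc y hy
  let T : K.cycles 0 →ₗ[A] A ⧸ m := eB.toLinearMap ∘ₗ θ.hom.hom ∘ₗ (K.homologyπ 0).hom
  have hT : Function.Injective T := eB.injective.comp ((θ.toLinearEquiv.injective).comp
    (ConcreteCategory.bijective_of_isIso (K.homologyπ 0)).1)
  obtain ⟨p, hp⟩ := Ideal.Quotient.mk_surjective (T cx)
  obtain ⟨q, hq⟩ := Ideal.Quotient.mk_surjective (T cy)
  obtain ⟨a, b, hab, h0⟩ : ∃ a b : A, (a ∉ m ∨ b ∉ m) ∧ a * p + b * q ∈ m := by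
    by_cases hpm : p ∈ m
    · exact ⟨1, 0, Or.inl m.one_notMem, by simpa using hpm⟩
    · exact ⟨q, -p, Or.inr (by simpa using hpm), by rw [neg_mul, mul_comm, add_neg_cancel]; exact m.zero_mem⟩
  refine ⟨a, b, hab, (Submodule.Quotient.mk_eq_zero _).1 ?_⟩
  have h1 : a • cx + b • cy = 0 := hT (by
    rw [map_add, map_smul, map_smul, map_zero, ← hp, ← hq]
    exact Ideal.Quotient.eq_zero_iff_mem.2 h0)
  rw [← hev, map_add, map_smul, map_smul, ← hcx, ← hcy]
  have h2 := congrArg (K.iCycles 0).hom h1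
  rw [map_add, map_smul, map_smul, map_zero] at h2
  exact (congrArg (ev 0) h2).trans (map_zero _)

/-- the generator of `H^0` -/
theorem exists_generator (P : DRing.Cx A) (hneg : IsZero (P.X (-1))) (e₀ : P.homology 0 ≅ ModuleCat.of A A) :
    ∃ e : P.X 0, (P.d 0 1).hom e = 0 ∧ (∀ x, (P.d 0 1).hom x = 0 → ∃ a : A, x = a • e) ∧
      ∀ a : A, a • e = 0 → a = 0 := by
  haveI : IsIso (P.homologyπ 0) := P.isIso_homologyπ (-1) 0 (by simp) (hneg.eq_of_src _ _)
  let θ : P.cycles 0 ≃ₗ[A] A := (asIso (P.homologyπ 0) ≪≫ e₀).toLinearEquiv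
  refine ⟨P.iCycles 0 (θ.symm 1), FlatCx.d_iCycles (K := P) (j := 0) (k := 1) _, fun x hx => ?_, fun a ha => ?_⟩
  · obtain ⟨c, rfl⟩ := FlatCx.exists_cycles (K := P) (j := 0) (k := 1) (by simp) x hx
    refine ⟨θ c, ?_⟩
    rw [← map_smul, ← map_smul, smul_eq_mul, mul_one, LinearEquiv.symm_apply_apply]
  · rw [← map_smul, ← map_smul] at ha
    simpa using θ.symm.injective ((FlatCx.iCycles_injective (K := P) (j := 0) (ha.trans (map_zero _).symm)).trans
      (map_zero θ.symm).symm)

/-- `A` splits off a complex of finite projectives in degrees `≥ 0` -/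
theorem exists_splitting (P : DRing.Cx A) {b : ℤ} (hP : DRing.VanishesOutside P 0 b)
    (hPp : DRing.TermwiseFiniteProjective P) (e₀ : P.homology 0 ≅ ModuleCat.of A A)
    (hfib : ∀ m : Ideal A, m.IsMaximal →
      Nonempty (((bc (Ideal.Quotient.mk m)).obj P).homology 0 ≅ ModuleCat.of (A ⧸ m) (A ⧸ m))) :
    ∃ (s : (single (ModuleCat.{u} A) (ComplexShape.up ℤ) 0).obj (ModuleCat.of A A) ⟶ P)
      (r : P ⟶ (single (ModuleCat.{u} A) (ComplexShape.up ℤ) 0).obj (ModuleCat.of A A)), s ≫ r = 𝟙 _ := by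
  have hneg : IsZero (P.X (-1)) := hP _ (Or.inl (by lia))
  obtain ⟨e, hde, hker, hfree⟩ := exists_generator P hneg e₀
  haveI := (hPp 0).1
  haveI := (hPp 0).2
  haveI := (hPp 1).2
  have key : ∀ m : Ideal A, m.IsMaximal → ∃ l : P.X 0 →ₗ[A] A, l e ∉ m := fun m hm => by
    haveI := hm
    exact exists_functional_notMem (P.d 0 1).hom e hde hker hfree m
      (line_of_fibre P hneg m (hfib m hm).some)
  obtain ⟨l, hl⟩ : ∃ l : P.X 0 →ₗ[A] A, l e = 1 := by
    have : LinearMap.range (LinearMap.applyₗ (R := A) (M₂ := A) e : (P.X 0 →ₗ[A] A) →ₗ[A] A) = (⊤ : Ideal A) := by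
      by_contra hI
      obtain ⟨m, hm, hIm⟩ := Ideal.exists_le_maximal _ hI
      obtain ⟨l, hl⟩ := key m hm
      exact hl (hIm ⟨l, rfl⟩)
    obtain ⟨l, hl⟩ := (this ▸ Submodule.mem_top : (1 : A) ∈ LinearMap.range _)
    exact ⟨l, hl⟩
  let S₀ := (single (ModuleCat.{u} A) (ComplexShape.up ℤ) 0).obj (ModuleCat.of A A)
  let s : S₀ ⟶ P := mkHomFromSingle (ModuleCat.ofHom (LinearMap.toSpanSingleton A (P.X 0) e)) fun j hj => by
    obtain rfl : (0 : ℤ) + 1 = j := hj
    refine ModuleCat.hom_ext (LinearMap.ext_ring ?_)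
    simpa using hde
  let r : P ⟶ S₀ := mkHomToSingle (ModuleCat.ofHom l) fun i hi => by
    obtain rfl : i = -1 := by simp only [ComplexShape.up_Rel] at hi; lia
    exact hneg.eq_of_src _ _
  refine ⟨s, r, ?_⟩
  apply HomologicalComplex.from_single_hom_ext
  simp only [comp_f, id_f, s, r, mkHomFromSingle_f, mkHomToSingle_f, Category.assoc]
  rw [← cancel_epi (singleObjXSelf (ComplexShape.up ℤ) 0 (ModuleCat.of A A)).inv, Iso.inv_hom_id_assoc, Category.comp_id,
    ← Category.assoc]
  refine Eq.trans (congrArg (· ≫ _) (?_ : _ = 𝟙 _)) (Category.id_comp _)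
  refine ModuleCat.hom_ext (LinearMap.ext_ring ?_)
  simpa using hl

end Groth.Agent.PerfPush
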