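import Groth.Agent.PerfGen.Results
import Groth.Agent.DerPush.Triangle
import Groth.Agent.DQCoh.Devissage
import Groth.Agent.KFlat.TorAmp

/-!
`E ↦ Rf_*(E ⊗^L G)` perfect defines a thick triangulated subcategory.
-/

set_option autoImplicit false
set_option backward.isDefEq.respectTransparency false
set_option backward.isDefEq.respectTransparency.types false
set_option linter.style.haveILetI false

universe u

open CategoryTheory Limits Pretriangulated AlgebraicGeometry ObjectProperty ZeroObject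

attribute [local instance] HasDerivedCategory.standard

namespace Groth.Agent.PerfPush

variable {X S : Scheme.{u}}

/-- tensoring isomorphic modules -/
noncomputable def tensorRightModIso {M N : X.Modules} (e : M ≅ N) : DCoh.tensorRightMod M ≅ DCoh.tensorRightMod N :=
  Functor.isoWhiskerLeft DCoh.toP (Functor.isoWhiskerRight
    ((MonoidalCategory.curriedTensor (CohB1.PMod X)).flip.mapIso (DCoh.toP.mapIso e)) DCoh.shP)

/-- derived tensor products with isomorphic modules -/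
theorem nonempty_ltm_congr {M N : X.Modules} (e : M ≅ N) [DCoh.HasLTensorMod M] [DCoh.HasLTensorMod N]
    (E : DCoh.D X) : Nonempty ((DCoh.LTensorMod M).obj E ≅ (DCoh.LTensorMod N).obj E) := by
  obtain ⟨K, hK, -, ⟨ε⟩⟩ := KFlat.exists_isKFlat_rep E
  exact ⟨(DCoh.LTensorMod M).mapIso ε.symm ≪≫ KFlat.lTensorModIso M hK ≪≫
    DerivedCategory.Q.mapIso ((NatIso.mapHomologicalComplex (tensorRightModIso e) (ComplexShape.up ℤ)).app K) ≪≫
    (KFlat.lTensorModIso N hK).symm ≪≫ (DCoh.LTensorMod N).mapIso ε⟩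

/-- triangles after `- ⊗^L G` -/
theorem exists_ltm_triangle (G : X.Modules) [DCoh.HasLTensorMod G] (T : Triangle (DCoh.D X))
    (hT : T ∈ distTriang (DCoh.D X)) :
    ∃ (a : (DCoh.LTensorMod G).obj T.obj₁ ⟶ (DCoh.LTensorMod G).obj T.obj₂)
      (b : (DCoh.LTensorMod G).obj T.obj₂ ⟶ (DCoh.LTensorMod G).obj T.obj₃)
      (c : (DCoh.LTensorMod G).obj T.obj₃ ⟶ ((DCoh.LTensorMod G).obj T.obj₁)⟦(1 : ℤ)⟧),
      Triangle.mk a b c ∈ distTriang (DCoh.D X) := by
  let e₁ : DerivedCategory.Q.obj _ ≅ T.obj₁ := DerivedCategory.Q.objObjPreimageIso T.obj₁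
  let e₂ : DerivedCategory.Q.obj _ ≅ T.obj₂ := DerivedCategory.Q.objObjPreimageIso T.obj₂
  obtain ⟨C₀, s, hs, v, hv⟩ := DerivedCategory.right_fac (e₁.hom ≫ T.mor₁ ≫ e₂.inv)
  haveI : QuasiIso s := (DerivedCategory.isIso_Q_map_iff_quasiIso _ s).1 hs
  haveI := hs
  let r := KFlat.resF X
  let P₁ := r.obj C₀
  let P₂ := r.obj ((DerivedCategory.Q : _ ⥤ DCoh.D X).objPreimage T.obj₂)
  let u : P₁ ⟶ P₂ := r.map v
  have hP₁ : DCoh.IsKFlat P₁ := KFlat.isKFlat_resF _
  have hP₂ : DCoh.IsKFlat P₂ := KFlat.isKFlat_resF _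
  let d₁ : DerivedCategory.Q.obj P₁ ≅ T.obj₁ :=
    asIso (DerivedCategory.Q.map ((KFlat.resψ X).app C₀)) ≪≫ asIso (DerivedCategory.Q.map s) ≪≫ e₁
  let d₂ : DerivedCategory.Q.obj P₂ ≅ T.obj₂ :=
    asIso (DerivedCategory.Q.map ((KFlat.resψ X).app _)) ≪≫ e₂
  have hnat : DerivedCategory.Q.map u ≫ d₂.hom = d₁.hom ≫ T.mor₁ := by
    have h1 : u ≫ (KFlat.resψ X).app _ = (KFlat.resψ X).app C₀ ≫ v := (KFlat.resψ X).naturality v
    have h2 : DerivedCategory.Q.map v ≫ e₂.hom = DerivedCategory.Q.map s ≫ e₁.hom ≫ T.mor₁ := by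
      rw [show DerivedCategory.Q.map v = DerivedCategory.Q.map s ≫ e₁.hom ≫ T.mor₁ ≫ e₂.inv by
        rw [hv, IsIso.hom_inv_id_assoc]]
      simp
    simp only [d₁, d₂, Iso.trans_hom, asIso_hom, Category.assoc]
    rw [← DerivedCategory.Q.map_comp_assoc, h1, DerivedCategory.Q.map_comp_assoc, h2]
  let F := KFlat.tR G
  have hP₃ : DCoh.IsKFlat (CochainComplex.mappingCone u) := KFlat.rflat_mappingCone_sch _ hP₁ hP₂
  let d₃ : DerivedCategory.Q.obj (CochainComplex.mappingCone u) ≅ T.obj₃ :=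
    Triangle.π₃.mapIso (isoTriangleOfIso₁₂ _ _ (DerivedCategory.mappingCone_triangle_distinguished u) hT d₁ d₂ hnat)
  let E₁ := (DCoh.LTensorMod G).mapIso d₁.symm ≪≫ KFlat.lTensorModIso G hP₁
  let E₂ := (DCoh.LTensorMod G).mapIso d₂.symm ≪≫ KFlat.lTensorModIso G hP₂
  let E₃ := (DCoh.LTensorMod G).mapIso d₃.symm ≪≫ KFlat.lTensorModIso G hP₃ ≪≫
    DerivedCategory.Q.mapIso (CochainComplex.mappingCone.mapHomologicalComplexIso u (DCoh.tensorRightMod G))
  let M := DerivedCategory.Q.mapTriangle.obj (CochainComplex.mappingCone.triangle (F.map u))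
  exact ⟨E₁.hom ≫ M.mor₁ ≫ E₂.inv, E₂.hom ≫ M.mor₂ ≫ E₃.inv, E₃.hom ≫ M.mor₃ ≫ E₁.inv⟦(1 : ℤ)⟧',
    isomorphic_distinguished _ (DerivedCategory.mappingCone_triangle_distinguished (F.map u)) _
      (Triangle.isoMk _ _ E₁ E₂ E₃ (by simp [M]) (by simp [M]) (by simp [M, ← Functor.map_comp]))⟩

/-- perfect after `Rf_*(- ⊗^L G)` -/
def PushPerf (f : X ⟶ S) (G : X.Modules) [DCoh.HasRpush f] [DCoh.HasLTensorMod G] : ObjectProperty (DCoh.D X) :=
  fun E => DCoh.IsPerfect ((DCoh.Rpush f).obj ((DCoh.LTensorMod G).obj E))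

variable (f : X ⟶ S) (G : X.Modules) [DCoh.HasRpush f] [DCoh.HasLTensorMod G]

lemma exists_triangle' (T : Triangle (DCoh.D X)) (hT : T ∈ distTriang (DCoh.D X)) :
    ∃ (a : (DCoh.Rpush f).obj ((DCoh.LTensorMod G).obj T.obj₁) ⟶ (DCoh.Rpush f).obj ((DCoh.LTensorMod G).obj T.obj₂))
      (b : (DCoh.Rpush f).obj ((DCoh.LTensorMod G).obj T.obj₂) ⟶ (DCoh.Rpush f).obj ((DCoh.LTensorMod G).obj T.obj₃))
      (c : (DCoh.Rpush f).obj ((DCoh.LTensorMod G).obj T.obj₃) ⟶
        ((DCoh.Rpush f).obj ((DCoh.LTensorMod G).obj T.obj₁))⟦(1 : ℤ)⟧),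
      Triangle.mk a b c ∈ distTriang (DCoh.D S) := by
  obtain ⟨a, b, c, h⟩ := exists_ltm_triangle G T hT
  obtain ⟨c', h'⟩ := DerPush.exists_rpush_triangle f _ _ _ h
  exact ⟨_, _, c', h'⟩

lemma pushPerf_of_isZero {Z : DCoh.D X} (hZ : IsZero Z) : PushPerf f G Z := by
  have hK : DCoh.IsKFlat (0 : CochainComplex X.Modules ℤ) := DQCoh.isKFlat_of_isZero (isZero_zero _)
  haveI := DerPush.isRightAdjoint_rpush f
  haveI : PreservesLimitsOfSize.{0, 0} (DCoh.Rpush f) := inferInstance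
  haveI : (DCoh.Rpush f).Additive := Functor.additive_of_preserves_binary_products _
  refine (PerfGen.perfT_zero (T := Set.univ) ((DCoh.Rpush f).map_isZero ?_)).1
  exact IsZero.of_iso (DerivedCategory.Q.map_isZero ((KFlat.tR G).map_isZero (isZero_zero _)))
    ((DCoh.LTensorMod G).mapIso (hZ.iso (DerivedCategory.Q.map_isZero (isZero_zero _))) ≪≫ KFlat.lTensorModIso G hK)

lemma pushPerf_of_iso {E F : DCoh.D X} (e : E ≅ F) (h : PushPerf f G E) : PushPerf f G F :=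
  DQCoh.perfect_of_iso ((DCoh.Rpush f).mapIso ((DCoh.LTensorMod G).mapIso e)) h

lemma pushPerf_obj₂ (T : Triangle (DCoh.D X)) (hT : T ∈ distTriang (DCoh.D X)) (h₁ : PushPerf f G T.obj₁)
    (h₃ : PushPerf f G T.obj₃) : PushPerf f G T.obj₂ := by
  obtain ⟨a, b, c, h⟩ := exists_triangle' f G T hT
  exact DQCoh.perfect_obj₂ _ h h₁ h₃

lemma pushPerf_shift_one (F : DCoh.D X) :
    PushPerf f G F ↔ PushPerf f G (F⟦(1 : ℤ)⟧) := by
  obtain ⟨a, b, c, hT⟩ := exists_triangle' f G _ (rot_of_distTriang _ (contractible_distinguished F))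
  have h0 : PushPerf f G (0 : DCoh.D X) := pushPerf_of_isZero f G (isZero_zero _)
  exact ⟨fun h => DQCoh.perfect_obj₃ _ hT h h0, fun h => DQCoh.perfect_obj₁ _ hT h0 h⟩

lemma pushPerf_shift {E : DCoh.D X} (h : PushPerf f G E) (n : ℤ) : PushPerf f G (E⟦n⟧) := by
  induction n using Int.induction_on with
  | zero => exact pushPerf_of_iso f G ((shiftFunctorZero (DCoh.D X) ℤ).app E).symm h
  | succ k ih =>
    exact pushPerf_of_iso f G ((shiftFunctorAdd' (DCoh.D X) (k : ℤ) 1 ((k : ℤ) + 1) rfl).app E).symm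
      ((pushPerf_shift_one f G _).1 ih)
  | pred k ih =>
    refine (pushPerf_shift_one f G _).2 (pushPerf_of_iso f G ?_ ih)
    exact (shiftFunctorAdd' (DCoh.D X) (-(k : ℤ) - 1) 1 (-(k : ℤ)) (by lia)).app E

/-- retracts of perfect objects are perfect -/
lemma isPerfect_of_retract {Y : Scheme.{u}} {A B : DCoh.D Y} (r : Retract A B) (hB : DCoh.IsPerfect B) :
    DCoh.IsPerfect A := by
  obtain ⟨C, a, b, hC⟩ := distinguished_cocone_triangle r.i
  haveI : IsSplitMono r.i := IsSplitMono.mk' ⟨r.r, r.retract⟩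
  obtain ⟨e, -⟩ := exists_iso_binaryBiproduct_of_distTriang _ hC
    ((Triangle.mor₃_eq_zero_iff_mono₁ _ hC).2 (inferInstanceAs (Mono r.i)))
  haveI : HasBinaryBiproduct A C := inferInstance
  exact (DQCoh.perfect_of_retract (L := C) (DQCoh.perfect_of_iso e hB)).1

/-- perfect objects push to perfect objects if a perfect generator does -/
theorem pushPerf_of_gen [CompactSpace X] [QuasiSeparatedSpace X] {P₀ : DCoh.D X} (hP₀ : DCoh.IsPerfect P₀)
    (hgen : PerfGen.Gen (DCoh.IsQCohD (X := X)) P₀) (h : PushPerf f G P₀) {E : DCoh.D X} (hE : DCoh.IsPerfect E) :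
    PushPerf f G E := by
  let Q : ObjectProperty (DCoh.D X) := PushPerf f G
  haveI : Q.IsClosedUnderIsomorphisms := ⟨fun e h => pushPerf_of_iso f G e h⟩
  haveI : Q.ContainsZero := ⟨⟨0, isZero_zero _, pushPerf_of_isZero f G (isZero_zero _)⟩⟩
  haveI : Q.IsStableUnderShift ℤ := ⟨fun n => ⟨fun E h => pushPerf_shift f G h n⟩⟩
  haveI : Q.IsTriangulatedClosed₂ := IsTriangulatedClosed₂.mk' fun T hT h₁ h₃ => pushPerf_obj₂ f G T hT h₁ h₃
  haveI : Q.IsTriangulated := {}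
  haveI : Q.IsStableUnderRetracts :=
    ⟨fun r hB => isPerfect_of_retract ((r.map (DCoh.LTensorMod G)).map (DCoh.Rpush f)) hB⟩
  exact ((triangEnvelope_le_iff (P := PerfGen.only P₀)).2 (fun E hE => by cases hE; exact h)) _
    (PerfGen.envelope_of_gen (PerfGen.localizing_qcohD X) (PerfGen.cpt_of_perfect hP₀) hgen
      (PerfGen.cpt_of_perfect hE))

end Groth.Agent.PerfPush
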